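import Groth.Prelude.Def_SGA7IX
import Groth.Agent.Dix.NeronEllPts
import Mathlib.AlgebraicGeometry.Noetherian
import Mathlib.Topology.NoetherianSpace
import Mathlib.Topology.Homeomorph.Lemmas
import Mathlib.Topology.Separation.Connected

/-!
# Sections and components of the special fibre

`R` a local ring, `N` a scheme over `Spec R`.

* `exists_isOpen_inter_eq`: in a Noetherian space the connected components of a subset are relatively open.
* `finite_range_connectedComponentIn`: there are finitely many of them.
* `exists_section_mem_secComp`: for `R` strictly henselian Noetherian and `N` smooth quasi-compact every connected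
  component of the special fibre is met by a section.
* `rT`, `image_secComp_rT`: right translations by sections of a group scheme, and their action on
  `SGA7.secComp`.
* `secComp_eq_iff`: two sections meet the same component iff `x * y⁻¹` meets the unit component.
-/

set_option autoImplicit false

universe u

open CategoryTheory CategoryTheory.Limits AlgebraicGeometry MonObj
open MonoidalCategory CartesianMonoidalCategory

namespace Groth.Agent.Sga7.H750.SecComp

section Topology

variable {A : Type*} [TopologicalSpace A]

open TopologicalSpace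

theorem finite_connectedComponents [NoetherianSpace A] : Finite (ConnectedComponents A) := by
  have hf : Finite (irreducibleComponents A) := NoetherianSpace.finite_irreducibleComponents.to_subtype
  have hne : ∀ Z : irreducibleComponents A, (Z : Set A).Nonempty := fun Z => Z.2.1.nonempty
  refine Finite.of_surjective (fun Z : irreducibleComponents A => (ConnectedComponents.mk (hne Z).some)) ?_
  intro c
  obtain ⟨x, rfl⟩ := ConnectedComponents.surjective_coe c
  let Z : irreducibleComponents A := ⟨irreducibleComponent x, irreducibleComponent_mem_irreducibleComponents x⟩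
  refine ⟨Z, ?_⟩
  have h1 : (hne Z).some ∈ irreducibleComponent x := (hne Z).some_mem
  have h2 : irreducibleComponent x ⊆ connectedComponent x :=
    irreducibleComponent_subset_connectedComponent
  exact ConnectedComponents.coe_eq_coe'.mpr (h2 h1)

theorem isOpen_connectedComponent' [NoetherianSpace A] (x : A) : IsOpen (connectedComponent x) := by
  have := finite_connectedComponents (A := A)
  have : DiscreteTopology (ConnectedComponents A) := inferInstance
  rw [← connectedComponents_preimage_singleton]
  exact (isOpen_discrete _).preimage ConnectedComponents.continuous_coe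

/-- In a Noetherian space the connected components of a subset are relatively open. -/
theorem exists_isOpen_inter_eq [NoetherianSpace A] (F : Set A) {x : A} (hx : x ∈ F) :
    ∃ O : Set A, IsOpen O ∧ O ∩ F = connectedComponentIn F x := by
  have : NoetherianSpace F := Topology.IsInducing.subtypeVal.noetherianSpace
  obtain ⟨O, hO, hO'⟩ := isOpen_induced_iff.1 (isOpen_connectedComponent' (⟨x, hx⟩ : F))
  refine ⟨O, hO, ?_⟩
  rw [connectedComponentIn_eq_image hx, ← hO', Subtype.image_preimage_coe, Set.inter_comm]

/-- In a Noetherian space a subset has finitely many connected components. -/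
theorem finite_range_connectedComponentIn [NoetherianSpace A] (F : Set A) {J : Type*} (g : J → A)
    (hg : ∀ i, g i ∈ F) : (Set.range fun i => connectedComponentIn F (g i)).Finite := by
  have : NoetherianSpace F := Topology.IsInducing.subtypeVal.noetherianSpace
  have : Finite (ConnectedComponents F) := finite_connectedComponents
  let φ : ConnectedComponents F → Set A := fun c => connectedComponentIn F (Quot.out c : F)
  refine (Set.finite_range φ).subset ?_
  rintro _ ⟨i, rfl⟩
  refine ⟨ConnectedComponents.mk (⟨g i, hg i⟩ : F), ?_⟩
  have h1 : (ConnectedComponents.mk (Quot.out (ConnectedComponents.mk (⟨g i, hg i⟩ : F))) :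
      ConnectedComponents F) = ConnectedComponents.mk (⟨g i, hg i⟩ : F) := Quot.out_eq _
  have h2 := ConnectedComponents.coe_eq_coe.1 h1
  change connectedComponentIn F _ = connectedComponentIn F (g i)
  rw [connectedComponentIn_eq_image (Subtype.coe_prop _), connectedComponentIn_eq_image (hg i)]
  exact congrArg _ h2

end Topology

section Sections

variable {R : Type u} [CommRing R] [IsLocalRing R] (N : Over (Spec (CommRingCat.of R)))

theorem section_mem_specialFibreSet (x : 𝟙_ (Over (Spec (CommRingCat.of R))) ⟶ N) :
    x.left.base (IsLocalRing.closedPoint R) ∈ SGA7.specialFibreSet R N := by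
  have h : x.left ≫ N.hom = 𝟙 _ := Over.w x
  exact congrArg (fun f : Spec (CommRingCat.of R) ⟶ Spec (CommRingCat.of R) =>
    f (IsLocalRing.closedPoint R)) h

theorem mem_secComp_self (x : 𝟙_ (Over (Spec (CommRingCat.of R))) ⟶ N) :
    x.left.base (IsLocalRing.closedPoint R) ∈ SGA7.secComp R N x :=
  mem_connectedComponentIn (section_mem_specialFibreSet N x)

theorem secComp_eq_iff_mem (x y : 𝟙_ (Over (Spec (CommRingCat.of R))) ⟶ N) :
    SGA7.secComp R N x = SGA7.secComp R N y ↔
      x.left.base (IsLocalRing.closedPoint R) ∈ SGA7.secComp R N y := by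
  constructor
  · intro h
    rw [← h]
    exact mem_secComp_self N x
  · intro h
    exact (connectedComponentIn_eq h).symm

omit [IsLocalRing R] in
theorem noetherianSpace [IsNoetherianRing R] [LocallyOfFiniteType N.hom] [QuasiCompact N.hom] :
    TopologicalSpace.NoetherianSpace N.left := by
  have h1 : IsLocallyNoetherian N.left := LocallyOfFiniteType.isLocallyNoetherian N.hom
  have h2 : CompactSpace N.left := QuasiCompact.compactSpace_of_compactSpace N.hom
  have : IsNoetherian N.left := { }
  infer_instance

theorem finite_range_secComp [IsNoetherianRing R] [LocallyOfFiniteType N.hom] [QuasiCompact N.hom] :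
    (Set.range (SGA7.secComp R N)).Finite := by
  have := noetherianSpace N
  exact finite_range_connectedComponentIn _ _ (section_mem_specialFibreSet N)

/-- Every connected component of the special fibre of a smooth scheme of finite type over a strictly henselian
Noetherian local ring is met by a section. -/
theorem exists_section_mem_secComp [IsNoetherianRing R] [Smooth N.hom] [QuasiCompact N.hom]
    (hR : EtCoh.IsStrictlyHenselianLocalRing R) (z : N.left) (hz : z ∈ SGA7.specialFibreSet R N) :
    ∃ x : 𝟙_ (Over (Spec (CommRingCat.of R))) ⟶ N, z ∈ SGA7.secComp R N x := by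
  have := noetherianSpace N
  obtain ⟨O, hO, hOF⟩ := exists_isOpen_inter_eq (SGA7.specialFibreSet R N) hz
  have hzO : z ∈ O := (hOF.ge (mem_connectedComponentIn hz)).1
  obtain ⟨a, ha, haO⟩ := Dix.NeronEllPts.exists_section hR N.hom z hz O hO hzO
  let x : 𝟙_ (Over (Spec (CommRingCat.of R))) ⟶ N := Over.homMk a ha
  refine ⟨x, ?_⟩
  have h1 : x.left.base (IsLocalRing.closedPoint R) ∈
      connectedComponentIn (SGA7.specialFibreSet R N) z :=
    hOF.le ⟨haO, section_mem_specialFibreSet N x⟩
  change z ∈ connectedComponentIn _ (x.left.base (IsLocalRing.closedPoint R))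
  rw [← connectedComponentIn_eq h1]
  exact mem_connectedComponentIn hz

end Sections

section Translation

variable {C : Type*} [Category* C] [CartesianMonoidalCategory C] {N : C} [GrpObj N]

/-- Right translation by a section of a group object. -/
def rTHom (y : 𝟙_ C ⟶ N) : N ⟶ N := 𝟙 N * (toUnit N ≫ y)

theorem comp_rTHom {T : C} (t : T ⟶ N) (y : 𝟙_ C ⟶ N) : t ≫ rTHom y = t * (toUnit T ≫ y) := by
  rw [rTHom, MonObj.comp_mul, Category.comp_id, ← Category.assoc, toUnit_unique (t ≫ toUnit N) (toUnit T)]

theorem sec_comp_rTHom (x y : 𝟙_ C ⟶ N) : x ≫ rTHom y = x * y := by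
  rw [comp_rTHom, toUnit_unique (toUnit (𝟙_ C)) (𝟙 _), Category.id_comp]

theorem rTHom_comp (y z : 𝟙_ C ⟶ N) : rTHom y ≫ rTHom z = rTHom (y * z) := by
  rw [comp_rTHom, rTHom, rTHom, MonObj.comp_mul, _root_.mul_assoc]

theorem rTHom_one : rTHom (1 : 𝟙_ C ⟶ N) = 𝟙 N := by
  rw [rTHom, MonObj.comp_one, _root_.mul_one]

/-- Right translation by a section of a group object, as an isomorphism. -/
def rT (y : 𝟙_ C ⟶ N) : N ≅ N where
  hom := rTHom y
  inv := rTHom y⁻¹
  hom_inv_id := by rw [rTHom_comp, mul_inv_cancel, rTHom_one]
  inv_hom_id := by rw [rTHom_comp, inv_mul_cancel, rTHom_one]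

end Translation

section Group

variable {R : Type u} [CommRing R] [IsLocalRing R] (N : Over (Spec (CommRingCat.of R)))

/-- An automorphism of `N` over `Spec R` maps components of the special fibre to components. -/
theorem image_secComp (e : N ≅ N) (x : 𝟙_ (Over (Spec (CommRingCat.of R))) ⟶ N) :
    e.hom.left.base '' SGA7.secComp R N x = SGA7.secComp R N (x ≫ e.hom) := by
  let E : N.left ≅ N.left := (Over.forget _).mapIso e
  let h : N.left ≃ₜ N.left := Scheme.homeoOfIso E
  have hF : h '' SGA7.specialFibreSet R N = SGA7.specialFibreSet R N := by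
    have h1 : ∀ w : N.left, N.hom (h w) = N.hom w := fun w => by
      change N.hom (e.hom.left w) = N.hom w
      rw [← Scheme.Hom.comp_apply, Over.w e.hom]
    ext w
    constructor
    · rintro ⟨v, hv, rfl⟩
      change N.hom (h v) = _
      rw [h1]
      exact hv
    · intro hw
      refine ⟨h.symm w, ?_, h.apply_symm_apply w⟩
      change N.hom (h.symm w) = _
      rw [← h1, h.apply_symm_apply]
      exact hw
  have h2 := h.image_connectedComponentIn (section_mem_specialFibreSet N x)
  rw [hF] at h2
  exact h2

variable [GrpObj N]

theorem mem_secUnitComp_iff (x : 𝟙_ (Over (Spec (CommRingCat.of R))) ⟶ N) :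
    x ∈ SGA7.secUnitComp R N ↔ SGA7.secComp R N x = SGA7.secComp R N 1 := by
  rw [secComp_eq_iff_mem]
  have h1 : (1 : 𝟙_ (Over (Spec (CommRingCat.of R))) ⟶ N) = η[N] := by
    rw [Hom.one_def, toUnit_unique (toUnit (𝟙_ _)) (𝟙 _), Category.id_comp]
  rw [h1]
  rfl

theorem secComp_mul_right_eq_iff (x y z : 𝟙_ (Over (Spec (CommRingCat.of R))) ⟶ N) :
    SGA7.secComp R N (x * z) = SGA7.secComp R N (y * z) ↔ SGA7.secComp R N x = SGA7.secComp R N y := by
  have hx : SGA7.secComp R N (x * z) = (rT z).hom.left.base '' SGA7.secComp R N x := by
    rw [image_secComp]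
    congr 1
    exact (sec_comp_rTHom x z).symm
  have hy : SGA7.secComp R N (y * z) = (rT z).hom.left.base '' SGA7.secComp R N y := by
    rw [image_secComp]
    congr 1
    exact (sec_comp_rTHom y z).symm
  rw [hx, hy]
  refine Set.image_injective.2 ?_ |>.eq_iff
  exact (Scheme.homeoOfIso ((Over.forget _).mapIso (rT z))).injective

/-- Two sections meet the same connected component of the special fibre if and only if `x * y⁻¹` meets the
component of the unit section. -/
theorem secComp_eq_iff (x y : 𝟙_ (Over (Spec (CommRingCat.of R))) ⟶ N) :
    SGA7.secComp R N x = SGA7.secComp R N y ↔ x * y⁻¹ ∈ SGA7.secUnitComp R N := by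
  rw [mem_secUnitComp_iff, ← secComp_mul_right_eq_iff N x y y⁻¹, mul_inv_cancel]

end Group

end Groth.Agent.Sga7.H750.SecComp
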