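import Groth.Agent.Dix.GenExtUniq
import Groth.Agent.Picfga.OverRep

/-!
# Generic fibres of open immersions and coverings

`R` a domain, `F = Neron.genericFibre R`.
-/

set_option autoImplicit false
universe u

open CategoryTheory CategoryTheory.Limits AlgebraicGeometry

namespace Groth.Agent.Sga7.H750.GenOv

open Groth.Agent.Picfga.OverRep (res pointCover hom_ext_cover Cov)
open Groth.Agent.Dix.GenFibre

section gluehom

variable {S : Scheme.{u}}

instance {T : Over S} (U : T.left.Opens) : IsOpenImmersion (res T U).left :=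
  inferInstanceAs (IsOpenImmersion U.ι)

/-- Gluing of morphisms, with compatibilities tested on open immersions only. -/
theorem glue_hom' (T Y : Over S) (𝒰 : Cov T) (h : ∀ i, 𝒰.V i ⟶ Y)
    (compat : ∀ (i k : 𝒰.ι) (W : Over S) (a : W ⟶ 𝒰.V i) (b : W ⟶ 𝒰.V k),
      IsOpenImmersion a.left → IsOpenImmersion b.left →
      a ≫ 𝒰.j i = b ≫ 𝒰.j k → a ≫ h i = b ≫ h k) :
    ∃ k : T ⟶ Y, ∀ i, 𝒰.j i ≫ k = h i := by
  have hk : ∀ x y : 𝒰.ι, pullback.fst (𝒰.j x).left (𝒰.j y).left ≫ (h x).left =
      pullback.snd _ _ ≫ (h y).left := by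
    intro x y
    let W : Over S := Over.mk (pullback.fst (𝒰.j x).left (𝒰.j y).left ≫ (𝒰.V x).hom)
    let a : W ⟶ 𝒰.V x := Over.homMk (pullback.fst (𝒰.j x).left (𝒰.j y).left) rfl
    let b : W ⟶ 𝒰.V y := Over.homMk (pullback.snd (𝒰.j x).left (𝒰.j y).left) (by
        change pullback.snd (𝒰.j x).left (𝒰.j y).left ≫ (𝒰.V y).hom =
          pullback.fst (𝒰.j x).left (𝒰.j y).left ≫ (𝒰.V x).hom
        rw [← Over.w (𝒰.j x), ← Over.w (𝒰.j y), pullback.condition_assoc])
    have := compat x y W a b
      (inferInstanceAs (IsOpenImmersion (pullback.fst (𝒰.j x).left (𝒰.j y).left)))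
      (inferInstanceAs (IsOpenImmersion (pullback.snd (𝒰.j x).left (𝒰.j y).left)))
      (by ext; exact pullback.condition)
    exact congr_arg CommaMorphism.left this
  have h1 : ∀ i, (𝒰.j i).left ≫ 𝒰.openCover.glueMorphisms (fun i => (h i).left) hk =
    (h i).left := fun i => 𝒰.openCover.ι_glueMorphisms (fun i => (h i).left) hk i
  refine ⟨Over.homMk (𝒰.openCover.glueMorphisms (fun i => (h i).left) hk) ?_, ?_⟩
  · apply 𝒰.openCover.hom_ext
    intro i
    change (𝒰.j i).left ≫ _ ≫ Y.hom = (𝒰.j i).left ≫ _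
    rw [reassoc_of% (h1 i), Over.w, Over.w]
  · intro i
    ext
    exact h1 i

end gluehom

variable {R : Type u} [CommRing R]

theorem isOpenImmersion_comp {S : Scheme.{u}} {T X Y : Over S} (a : T ⟶ X) (b : X ⟶ Y)
    (ha : IsOpenImmersion a.left) (hb : IsOpenImmersion b.left) : IsOpenImmersion (a ≫ b).left := by
  rw [Over.comp_left]
  infer_instance

theorem flat_of_isOpenImmersion {S : Scheme.{u}} {T X : Over S} (a : T ⟶ X)
    [IsOpenImmersion a.left] [Flat X.hom] : Flat T.hom := by
  rw [← Over.w a]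
  infer_instance

theorem isOpenImmersion_of_comp {S : Scheme.{u}} {T X Y : Over S} (a : T ⟶ X) (b : X ⟶ Y)
    [IsOpenImmersion (a ≫ b).left] [IsOpenImmersion b.left] : IsOpenImmersion a.left := by
  have : IsOpenImmersion (a.left ≫ b.left) := by rw [← Over.comp_left]; infer_instance
  exact IsOpenImmersion.of_comp a.left b.left

/-- The generic fibre of a morphism is a base change. -/
theorem isPullback_map_left {Y Z : Over (Spec (CommRingCat.of R))} (f : Y ⟶ Z) :
    IsPullback ((Neron.genericFibre R).map f).left (genι Y) (genι Z) f.left := by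
  refine IsPullback.of_right (h₁₂ := ((Neron.genericFibre R).obj Z).hom) (h₂₂ := Z.hom)
    (v₁₃ := Neron.genPt R) ?_ (genι_naturality f) (isPullback_genι Z).flip
  rw [Over.w, Over.w]
  exact (isPullback_genι Y).flip

instance isOpenImmersion_map_left {Y Z : Over (Spec (CommRingCat.of R))} (f : Y ⟶ Z)
    [IsOpenImmersion f.left] : IsOpenImmersion ((Neron.genericFibre R).map f).left :=
  MorphismProperty.of_isPullback (isPullback_map_left f).flip inferInstance

theorem exists_map_left_eq {Y Z : Over (Spec (CommRingCat.of R))} (f : Y ⟶ Z)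
    (z : ((Neron.genericFibre R).obj Z).left) (y : Y.left) (h : f.left y = genι Z z) :
    ∃ w, ((Neron.genericFibre R).map f).left w = z := by
  obtain ⟨w, hw, -⟩ := Scheme.exists_preimage_of_isPullback (isPullback_map_left f) z y h.symm
  exact ⟨w, hw⟩

/-- The generic fibre of an open covering. -/
noncomputable def genCov {T : Over (Spec (CommRingCat.of R))} (𝒰 : Cov T) : Cov ((Neron.genericFibre R).obj T) where
  ι := 𝒰.ι
  V i := (Neron.genericFibre R).obj (𝒰.V i)
  j i := (Neron.genericFibre R).map (𝒰.j i)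
  isOpen i := inferInstance
  covers z := by
    obtain ⟨i, v, hv⟩ := 𝒰.covers (genι T z)
    obtain ⟨w, hw⟩ := exists_map_left_eq (𝒰.j i) z v hv
    exact ⟨i, w, hw⟩

/-- Morphisms from a generic fibre are determined locally. -/
theorem genHom_ext_cover {A : Over (Spec (CommRingCat.of (FractionRing R)))} (T : Over (Spec (CommRingCat.of R)))
    (𝒰 : Cov T) (f g : (Neron.genericFibre R).obj T ⟶ A)
    (h : ∀ i, (Neron.genericFibre R).map (𝒰.j i) ≫ f = (Neron.genericFibre R).map (𝒰.j i) ≫ g) : f = g :=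
  hom_ext_cover _ _ (genCov 𝒰) f g h

end Groth.Agent.Sga7.H750.GenOv
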