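import Groth.Agent.Sga7.H750.LocLaw
import Groth.Agent.Sga7.H244.Charts
import Groth.Agent.Dix.GenOpen

/-!
# From minimal charts (N3) to local laws
-/

set_option autoImplicit false
universe u v

open CategoryTheory CategoryTheory.Limits AlgebraicGeometry MonoidalCategory CartesianMonoidalCategory
open scoped MonObj

namespace Groth.Agent.Sga7.H750.Conv

open GenOv LocVal FibGen GenLaw LocLaw Groth.Agent.Dix.GenFibre
open Groth.Agent.Sga7.H244.Charts (Chart IsMinimal gen)
open Groth.Agent.Picfga.OverRep (res)

variable {R : Type u} [CommRing R] [IsDomain R]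

local notation "𝒮" => Over (Spec (CommRingCat.of R))
local notation "𝒦" => Over (Spec (CommRingCat.of (FractionRing R)))
local notation "F" => Neron.genericFibre R

variable {A : Over (Spec (CommRingCat.of (FractionRing R)))}

/-- The chart in functorial form. -/
noncomputable def chartMap (C : Chart R (FractionRing R) A) :
    (Neron.genericFibre R).obj (Over.mk C.x) ⟶ A :=
  C.pt (T := (Neron.genericFibre R).obj (Over.mk C.x)) (genι (Over.mk C.x)) (isPullback_genι _).w

/-- The value of the chart on a morphism. -/
theorem map_chartMap (C : Chart R (FractionRing R) A) {Y : 𝒮} (a : Y ⟶ Over.mk C.x) :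
    (F).map a ≫ chartMap C = C.pt (T := (F).obj Y) (genι Y ≫ a.left) (by
      have := Over.w a
      rw [Category.assoc]
      change genι Y ≫ a.left ≫ (Over.mk C.x).hom = _
      rw [this]
      exact (isPullback_genι Y).w) := by
  apply Over.OverMorphism.ext
  rw [Over.comp_left]
  simp only [chartMap, Chart.pt, Over.homMk_left]
  rw [← Category.assoc]
  congr 1
  apply C.isPullback.hom_ext
  · rw [Category.assoc, IsPullback.lift_fst, IsPullback.lift_fst]
    exact genι_naturality a
  · rw [Category.assoc, IsPullback.lift_snd, IsPullback.lift_snd]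
    exact Over.w _

theorem isOpenImmersion_chartMap (C : Chart R (FractionRing R) A) (h : IsOpenImmersion C.φ) :
    IsOpenImmersion (chartMap C).left := by
  have h1 : IsIso (C.isPullback.lift (genι (Over.mk C.x)) ((F).obj (Over.mk C.x)).hom
      (isPullback_genι _).w) := by
    refine ⟨(isPullback_genι (Over.mk C.x)).lift C.jX C.xK C.isPullback.w, ?_, ?_⟩
    · apply (isPullback_genι (Over.mk C.x)).hom_ext <;> simp
    · apply C.isPullback.hom_ext <;> simp
  exact inferInstanceAs (IsOpenImmersion (C.isPullback.lift (genι (Over.mk C.x))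
    ((F).obj (Over.mk C.x)).hom (isPullback_genι _).w ≫ C.φ))

section irred

variable [IsDiscreteValuationRing R]

/-- A morphism from the spectrum of a field to the closed point factors through the residue field. -/
theorem exists_factor_closed {L : Type u} [Field L] (f : Spec (CommRingCat.of L) ⟶ Spec (CommRingCat.of R))
    (h : f (IsLocalRing.closedPoint L) = IsLocalRing.closedPoint R) :
    ∃ g : Spec (CommRingCat.of L) ⟶ Spec (CommRingCat.of (IsLocalRing.ResidueField R)),
      g ≫ Spec.map (CommRingCat.ofHom (algebraMap R (IsLocalRing.ResidueField R))) = f := by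
  obtain ⟨φ, rfl⟩ := Spec.map_surjective f
  have hloc : IsLocalHom φ.hom := by
    rw [IsLocalRing.isLocalHom_iff_comap_closedPoint]
    exact h
  refine ⟨Spec.map (CommRingCat.ofHom (IsLocalRing.ResidueField.lift φ.hom)), ?_⟩
  rw [← Spec.map_comp]
  congr 1

/-- A morphism from the spectrum of a field to the generic point factors through the fraction field. -/
theorem exists_factor_generic {L : Type u} [Field L] (f : Spec (CommRingCat.of L) ⟶ Spec (CommRingCat.of R))
    (h : f (IsLocalRing.closedPoint L) ≠ IsLocalRing.closedPoint R) :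
    ∃ g : Spec (CommRingCat.of L) ⟶ Spec (CommRingCat.of (FractionRing R)),
      g ≫ Neron.genPt R = f := by
  obtain ⟨φ, rfl⟩ := Spec.map_surjective f
  have h1 := Dix.GenOpen.eq_bot_of_ne_closedPoint R _ h
  have hinj : Function.Injective φ.hom := by
    rw [injective_iff_map_eq_zero]
    intro a ha
    have h2 : a ∈ (Spec.map φ (IsLocalRing.closedPoint L)).asIdeal := by
      change φ.hom a ∈ (IsLocalRing.closedPoint L).asIdeal
      rw [ha]
      exact Ideal.zero_mem _
    rw [h1] at h2
    exact h2
  refine ⟨Spec.map (CommRingCat.ofHom (IsFractionRing.lift (K := FractionRing R) hinj)), ?_⟩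
  rw [← Spec.map_comp]
  congr 1
  ext a
  simp

/-- Geometric irreducibility from the two fibres. -/
theorem geomIrred (C : Chart R (FractionRing R) A) [Flat C.x] [GeometricallyIrreducible A.hom]
    (hφ : IsOpenImmersion C.φ) (hne : ∃ y, C.x y = IsLocalRing.closedPoint R)
    (h : GeometricallyIrreducible (pullback.snd C.x
      (Spec.map (CommRingCat.ofHom (algebraMap R (IsLocalRing.ResidueField R)))))) :
    GeometricallyIrreducible C.x := by
  -- the generic fibre
  have hK : GeometricallyIrreducible C.xK := by
    obtain ⟨y, hy⟩ := hne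
    obtain ⟨y', hy', -⟩ := Dix.GenOpen.exists_specializes C.x y
    have hr : C.x y' ∈ (Neron.genPt R).opensRange := by
      rw [Dix.GenOpen.opensRange_genPt]; exact hy'
    obtain ⟨t, ht⟩ := hr
    obtain ⟨z, -, -⟩ := Scheme.exists_preimage_of_isPullback C.isPullback y' t ht.symm
    have hsurj : Surjective (C.φ ≫ A.hom) := by
      refine ⟨fun t => ⟨z, ?_⟩⟩
      exact Subsingleton.elim (α := PrimeSpectrum (FractionRing R)) _ _
    rw [← C.hφ]
    infer_instance
  rw [GeometricallyIrreducible.iff_geometricallyIrreducible_fiber]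
  intro s
  have hpt : ∀ t, (Spec (CommRingCat.of R)).fromSpecResidueField s t = s := by
    intro t
    have : (Spec (CommRingCat.of R)).fromSpecResidueField s t ∈
      Set.range ((Spec (CommRingCat.of R)).fromSpecResidueField s) := ⟨t, rfl⟩
    rw [Scheme.range_fromSpecResidueField] at this
    exact this
  by_cases hs : s = IsLocalRing.closedPoint R
  · obtain ⟨g, hg⟩ : ∃ g : Spec ((Spec (CommRingCat.of R)).residueField s) ⟶
        Spec (CommRingCat.of (IsLocalRing.ResidueField R)),
        g ≫ Spec.map (CommRingCat.ofHom (algebraMap R (IsLocalRing.ResidueField R))) =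
          (Spec (CommRingCat.of R)).fromSpecResidueField s :=
      exists_factor_closed ((Spec (CommRingCat.of R)).fromSpecResidueField s) ((hpt _).trans hs)
    have h1 : IsPullback (pullback.lift (C.x.fiberι s) (C.x.fiberToSpecResidueField s ≫ g)
        (by rw [Category.assoc, hg, Scheme.Hom.fiber_fac])) (C.x.fiberToSpecResidueField s)
        (pullback.snd C.x (Spec.map (CommRingCat.ofHom (algebraMap R (IsLocalRing.ResidueField R))))) g := by
      refine IsPullback.of_right (h₁₂ := pullback.fst _ _) (h₂₂ := Spec.map (CommRingCat.ofHom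
        (algebraMap R (IsLocalRing.ResidueField R)))) (v₁₃ := C.x) ?_ (by rw [pullback.lift_snd])
        (IsPullback.of_hasPullback _ _)
      rw [pullback.lift_fst, hg]
      exact IsPullback.of_hasPullback _ _
    exact MorphismProperty.of_isPullback h1 h
  · obtain ⟨g, hg⟩ : ∃ g : Spec ((Spec (CommRingCat.of R)).residueField s) ⟶
        Spec (CommRingCat.of (FractionRing R)), g ≫ Neron.genPt R =
          (Spec (CommRingCat.of R)).fromSpecResidueField s :=
      exists_factor_generic ((Spec (CommRingCat.of R)).fromSpecResidueField s)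
        (fun h' => hs ((hpt _).symm.trans h'))
    have h1 : IsPullback (C.isPullback.lift (C.x.fiberι s) (C.x.fiberToSpecResidueField s ≫ g)
        (by rw [Category.assoc, hg, Scheme.Hom.fiber_fac])) (C.x.fiberToSpecResidueField s) C.xK g := by
      refine IsPullback.of_right (h₁₂ := C.jX) (h₂₂ := Neron.genPt R) (v₁₃ := C.x) ?_
        (by rw [IsPullback.lift_snd]) C.isPullback
      rw [IsPullback.lift_fst, hg]
      exact IsPullback.of_hasPullback _ _
    exact MorphismProperty.of_isPullback h1 hK

end irred

section law

variable [IsDiscreteValuationRing R] [GrpObj A] {I : Type v}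
  {Y : I → Chart R (FractionRing R) A} {C : Chart R (FractionRing R) A} {ζ : C.X}

/-- The local law of a minimal chart. -/
theorem exists_law (h : IsMinimal Y C ζ) : ∃ L : Law (Over.mk C.x) (chartMap C),
    ∃ q : L.D.left, L.D.hom q = IsLocalRing.closedPoint R := by
  obtain ⟨U, m, h1, h2, ⟨p, hpU, hp⟩, h3, h4, h5⟩ := h.law
  let D : 𝒮 := Over.mk ((U.ι ≫ pullback.fst C.x C.x) ≫ C.x)
  let p₁ : D ⟶ Over.mk C.x := Over.homMk (U.ι ≫ pullback.fst C.x C.x) rfl
  let p₂ : D ⟶ Over.mk C.x := Over.homMk (U.ι ≫ pullback.snd C.x C.x) (h2.symm.trans h1)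
  let p₃ : D ⟶ Over.mk C.x := Over.homMk m h1
  let L : Law (Over.mk C.x) (chartMap C) :=
    { D := D
      p₁ := p₁
      p₂ := p₂
      p₃ := p₃
      o₁₂ := by
        have : (lift p₁ p₂).left = U.ι := by
          apply pullback.hom_ext
          · change (lift p₁ p₂).left ≫ (fst (Over.mk C.x) (Over.mk C.x)).left = _
            rw [← Over.comp_left, lift_fst]
            rfl
          · change (lift p₁ p₂).left ≫ (snd (Over.mk C.x) (Over.mk C.x)).left = _
            rw [← Over.comp_left, lift_snd]
            rfl
        rw [this]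
        exact inferInstanceAs (IsOpenImmersion U.ι)
      o₁₃ := h3
      o₃₂ := h4
      eq := by
        rw [map_chartMap, map_chartMap, map_chartMap]
        exact h5 ((F).obj D) (genι D) _ _ _ }
  exact ⟨L, ⟨p, hpU⟩, hp⟩

end law

end Groth.Agent.Sga7.H750.Conv
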