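import Groth.Agent.Sga7.H750.LocLaw

/-!
# Multiplication and inverse of a strict local law up to translations by points
-/

set_option autoImplicit false
universe u

open CategoryTheory CategoryTheory.Limits AlgebraicGeometry MonoidalCategory CartesianMonoidalCategory
open scoped MonObj

namespace Groth.Agent.Sga7.H750.LawOps

open GenOv LocVal FibGen GenLaw LocLaw Groth.Agent.Dix.GenFibre
open Groth.Agent.Picfga.OverRep (res)

section cst

variable {C : Type*} [Category* C] [CartesianMonoidalCategory C] {A : C} [GrpObj A]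

/-- Constant morphisms. -/
def cst (Z : C) (c : 𝟙_ C ⟶ A) : Z ⟶ A := toUnit Z ≫ c

omit [GrpObj A] in
@[simp]
theorem comp_cst {Z Z' : C} (f : Z ⟶ Z') (c : 𝟙_ C ⟶ A) : f ≫ cst Z' c = cst Z c := by
  rw [cst, cst, ← Category.assoc]
  congr 1
  exact toUnit_unique _ _

theorem cst_mul (Z : C) (c d : 𝟙_ C ⟶ A) : cst Z (c * d) = cst Z c * cst Z d := MonObj.comp_mul _ _ _

theorem cst_one (Z : C) : cst Z (1 : 𝟙_ C ⟶ A) = 1 := MonObj.comp_one _

theorem cst_inv (Z : C) (c : 𝟙_ C ⟶ A) : cst Z c⁻¹ = (cst Z c)⁻¹ := GrpObj.comp_inv _ _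

/-- Translation by a point. -/
def T (c : 𝟙_ C ⟶ A) : A ⟶ A := 𝟙 A * cst A c

theorem comp_T {Z : C} (f : Z ⟶ A) (c : 𝟙_ C ⟶ A) : f ≫ T c = f * cst Z c := by
  rw [T, MonObj.comp_mul, Category.comp_id, comp_cst]

theorem T_comp_T (c d : 𝟙_ C ⟶ A) : T c ≫ T d = T (c * d) := by
  rw [comp_T, T, T, cst_mul, mul_assoc]

theorem T_one : T (1 : 𝟙_ C ⟶ A) = 𝟙 A := by
  rw [T, cst_one, mul_one]

instance (c : 𝟙_ C ⟶ A) : IsIso (T c) :=
  ⟨T c⁻¹, by rw [T_comp_T, mul_inv_cancel, T_one], by rw [T_comp_T, inv_mul_cancel, T_one]⟩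

/-- The translation by a function on `Z`. -/
def tr {Z : C} (φ : Z ⟶ A) : Z ⊗ A ⟶ Z ⊗ A := lift (fst Z A) ((fst Z A ≫ φ) * snd Z A)

/-- The reflection by a function on `Z`. -/
def sb {Z : C} (φ : Z ⟶ A) : Z ⊗ A ⟶ Z ⊗ A := lift (fst Z A) ((fst Z A ≫ φ) * (snd Z A)⁻¹)

theorem comp_tr {Z W : C} (φ : Z ⟶ A) (f : W ⟶ Z ⊗ A) :
    f ≫ tr φ = lift (f ≫ fst _ _) ((f ≫ fst _ _ ≫ φ) * (f ≫ snd _ _)) := by
  rw [tr]
  ext1
  · simp
  · rw [Category.assoc, lift_snd, lift_snd, MonObj.comp_mul]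

theorem comp_sb {Z W : C} (φ : Z ⟶ A) (f : W ⟶ Z ⊗ A) :
    f ≫ sb φ = lift (f ≫ fst _ _) ((f ≫ fst _ _ ≫ φ) * (f ≫ snd _ _)⁻¹) := by
  rw [sb]
  ext1
  · simp
  · rw [Category.assoc, lift_snd, lift_snd, MonObj.comp_mul, GrpObj.comp_inv]

theorem tr_comp_tr {Z : C} (φ ψ : Z ⟶ A) : tr φ ≫ tr ψ = tr (ψ * φ) := by
  rw [comp_tr, tr, tr]
  ext1
  · simp
  · simp only [lift_snd, lift_fst, lift_fst_assoc, MonObj.comp_mul]
    rw [mul_assoc]

theorem sb_comp_tr {Z : C} (φ ψ : Z ⟶ A) : sb φ ≫ tr ψ = sb (ψ * φ) := by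
  rw [comp_tr, sb, sb]
  ext1
  · simp
  · simp only [lift_snd, lift_fst, lift_fst_assoc, MonObj.comp_mul]
    rw [mul_assoc]

end cst

variable {R : Type u} [CommRing R]

local notation "𝒮" => Over (Spec (CommRingCat.of R))
local notation "𝒦" => Over (Spec (CommRingCat.of (FractionRing R)))
local notation "F" => Neron.genericFibre R

variable {A : Over (Spec (CommRingCat.of (FractionRing R)))} [GrpObj A]

section ev

/-- The generic fibre of the unit object is terminal. -/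
theorem toGenUnit_ext {T : 𝒦} (f g : T ⟶ (F).obj (𝟙_ 𝒮)) : f = g := by
  apply Over.OverMorphism.ext
  have : Mono (pullback.snd (𝟙 (Spec (CommRingCat.of R))) (Neron.genPt R)) := inferInstance
  rw [← cancel_mono (pullback.snd (𝟙 (Spec (CommRingCat.of R))) (Neron.genPt R))]
  exact (Over.w f).trans (Over.w g).symm

/-- The unit object and the generic fibre of the unit object. -/
noncomputable def unitι : 𝟙_ 𝒦 ⟶ (F).obj (𝟙_ 𝒮) :=
  Over.homMk (pullback.lift (Neron.genPt R) (𝟙 _) (by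
    change Neron.genPt R ≫ 𝟙 _ = 𝟙 _ ≫ Neron.genPt R
    rw [Category.comp_id, Category.id_comp]))
    (pullback.lift_snd _ _ _)

/-- The point of `A` defined by a section of a chart. -/
noncomputable def ev {X : 𝒮} (ξ : (F).obj X ⟶ A) (a : 𝟙_ 𝒮 ⟶ X) : 𝟙_ 𝒦 ⟶ A := unitι ≫ (F).map a ≫ ξ

omit [GrpObj A] in
theorem map_toUnit {X Y : 𝒮} (ξ : (F).obj X ⟶ A) (a : 𝟙_ 𝒮 ⟶ X) :
    (F).map (toUnit Y ≫ a) ≫ ξ = cst ((F).obj Y) (ev ξ a) := by
  rw [cst, ev, Functor.map_comp, Category.assoc, ← Category.assoc (toUnit _)]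
  congr 1
  exact toGenUnit_ext _ _

end ev

variable {X : Over (Spec (CommRingCat.of R))} {ξ : (Neron.genericFibre R).obj X ⟶ A}

section generic

variable [IsLocalRing R] [GeometricallyIrreducible X.hom] (L : Law X ξ) (hL : L.IsStrict)
include hL

/-- `t ↦ v t`. -/
theorem val_tr {Y : 𝒮} (v : Y ⟶ X) (y : Y.left) (hy : Y.hom y = IsLocalRing.closedPoint R) :
    Val (chY Y ξ) (chY Y ξ ≫ tr ((F).map v ≫ ξ)) (eta Y X y) (eta Y X y) := by
  obtain ⟨q, hq⟩ := hL.s₁ (v.left y) (by rw [← Scheme.Hom.comp_apply, Over.w, hy])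
  have h := val_generic ξ ξ ξ L.p₁ L.p₂ L.p₃ L.o₁₂ L.o₁₃ (fst A A * snd A A) (by
    rw [L.eq, MonObj.comp_mul, lift_fst, lift_snd]) v y q hq
  rw [MonObj.comp_mul, lift_fst, lift_snd] at h
  rw [comp_tr, chY_fst, chY_snd, chY_fst_assoc, ← Functor.map_comp_assoc]
  exact h

/-- `t ↦ t v⁻¹`. -/
theorem val_tr_inv [IsCommMonObj A] {Y : 𝒮} (v : Y ⟶ X) (y : Y.left)
    (hy : Y.hom y = IsLocalRing.closedPoint R) :
    Val (chY Y ξ) (chY Y ξ ≫ tr ((F).map v ≫ ξ)⁻¹) (eta Y X y) (eta Y X y) := by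
  obtain ⟨q, hq⟩ := hL.s₂ (v.left y) (by rw [← Scheme.Hom.comp_apply, Over.w, hy])
  have h := val_generic ξ ξ ξ L.p₂ L.p₃ L.p₁ (isOpenImmersion_swap _ _ L.o₃₂)
    (isOpenImmersion_swap _ _ L.o₁₂) ((fst A A)⁻¹ * snd A A) (by
    rw [MonObj.comp_mul, GrpObj.comp_inv, lift_fst, lift_snd, L.eq, mul_comm ((F).map L.p₁ ≫ ξ),
      inv_mul_cancel_left]) v y q hq
  rw [MonObj.comp_mul, GrpObj.comp_inv, lift_fst, lift_snd] at h
  rw [comp_tr, chY_fst, chY_snd, GrpObj.comp_inv, GrpObj.comp_inv, chY_fst_assoc, ← Functor.map_comp_assoc]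
  exact h

/-- `t ↦ v t⁻¹`. -/
theorem val_sb {Y : 𝒮} (v : Y ⟶ X) (y : Y.left) (hy : Y.hom y = IsLocalRing.closedPoint R) :
    Val (chY Y ξ) (chY Y ξ ≫ sb ((F).map v ≫ ξ)) (eta Y X y) (eta Y X y) := by
  obtain ⟨q, hq⟩ := hL.s₃ (v.left y) (by rw [← Scheme.Hom.comp_apply, Over.w, hy])
  have h := val_generic ξ ξ ξ L.p₃ L.p₂ L.p₁ L.o₃₂
    (isOpenImmersion_swap _ _ L.o₁₃) (fst A A * (snd A A)⁻¹) (by
    rw [MonObj.comp_mul, GrpObj.comp_inv, lift_fst, lift_snd, L.eq]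
    group) v y q hq
  rw [MonObj.comp_mul, GrpObj.comp_inv, lift_fst, lift_snd] at h
  rw [comp_sb, chY_fst, chY_snd, chY_fst_assoc, ← Functor.map_comp_assoc]
  exact h

end generic

section spec

omit [GrpObj A] in
theorem map_lift_chY {Y : 𝒮} (a : 𝟙_ 𝒮 ⟶ X) :
    (F).map (lift (𝟙 Y) (toUnit Y ≫ a)) ≫ chY Y ξ = lift (𝟙 _) (cst _ (ev ξ a)) := by
  ext1
  · rw [Category.assoc, chY_fst, ← Functor.map_comp, lift_fst, lift_fst, CategoryTheory.Functor.map_id]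
  · rw [Category.assoc, chY_snd, ← Functor.map_comp_assoc, lift_snd, lift_snd, map_toUnit]

theorem map_lift_chY_tr {Y : 𝒮} (a : 𝟙_ 𝒮 ⟶ X) (ψ : (F).obj Y ⟶ A) :
    (F).map (lift (𝟙 Y) (toUnit Y ≫ a)) ≫ chY Y ξ ≫ tr ψ ≫ snd _ _ = ψ * cst _ (ev ξ a) := by
  rw [← Category.assoc, map_lift_chY, ← Category.assoc, comp_tr, lift_snd, lift_fst_assoc, lift_snd,
    Category.id_comp]

theorem map_lift_chY_sb {Y : 𝒮} (a : 𝟙_ 𝒮 ⟶ X) (ψ : (F).obj Y ⟶ A) :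
    (F).map (lift (𝟙 Y) (toUnit Y ≫ a)) ≫ chY Y ξ ≫ sb ψ ≫ snd _ _ = ψ * (cst _ (ev ξ a))⁻¹ := by
  rw [← Category.assoc, map_lift_chY, ← Category.assoc, comp_sb, lift_snd, lift_fst_assoc, lift_snd,
    Category.id_comp]

variable [IsLocalRing R] [GeometricallyIrreducible X.hom] [Smooth X.hom]

/-- If the translation by `ψ` is defined at the generic point of the fibre over `z` then `ψ` is defined at `z` up
to the translation by a point. -/
theorem exists_val_of_tr (hR : EtCoh.IsStrictlyHenselianLocalRing R) {Y : 𝒮} (ψ : (F).obj Y ⟶ A) (z : Y.left)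
    (hz : Y.hom z = IsLocalRing.closedPoint R) {p : (Y ⊗ X).left}
    (h : Val (chY Y ξ) (chY Y ξ ≫ tr ψ) (eta Y X z) p) :
    ∃ (c : 𝟙_ 𝒦 ⟶ A) (x : X.left), Val (ξ ≫ T c) ψ z x := by
  have h1 : Val ξ ((chY Y ξ ≫ tr ψ) ≫ snd _ _) (eta Y X z) ((snd Y X).left p) :=
    h.trans _ (val_map' ξ (snd Y X) p _ (chY_snd Y ξ))
  obtain ⟨a, x, -, hx⟩ := Val.exists_section hR hz h1 Set.univ isOpen_univ trivial
  rw [Category.assoc, map_lift_chY_tr] at hx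
  refine ⟨(ev ξ a)⁻¹, x, ?_⟩
  have h2 := hx.whisker (T (ev ξ a)⁻¹)
  rwa [comp_T (ψ * _), cst_inv, mul_inv_cancel_right] at h2

variable (L : Law X ξ) (hL : L.IsStrict)

include hL

/-- Products of two morphisms to `X` are defined up to a translation. -/
theorem exists_val_mul (hR : EtCoh.IsStrictlyHenselianLocalRing R) {Y : 𝒮} (u v : Y ⟶ X) (z : Y.left)
    (hz : Y.hom z = IsLocalRing.closedPoint R) :
    ∃ (c : 𝟙_ 𝒦 ⟶ A) (x : X.left), Val (ξ ≫ T c) (((F).map u ≫ ξ) * ((F).map v ≫ ξ)) z x := by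
  apply exists_val_of_tr hR _ z hz
  rw [← tr_comp_tr, ← Category.assoc]
  exact (val_tr L hL v z hz).trans _ (val_tr L hL u z hz)

/-- The inverse of a morphism to `X` is defined up to a translation. -/
theorem exists_val_inv [IsCommMonObj A] (hR : EtCoh.IsStrictlyHenselianLocalRing R) {Y : 𝒮} (v : Y ⟶ X) (z : Y.left)
    (hz : Y.hom z = IsLocalRing.closedPoint R) :
    ∃ (c : 𝟙_ 𝒦 ⟶ A) (x : X.left), Val (ξ ≫ T c) ((F).map v ≫ ξ)⁻¹ z x :=
  exists_val_of_tr hR _ z hz (val_tr_inv L hL v z hz)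

end spec

end Groth.Agent.Sga7.H750.LawOps
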