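import Mathlib.AlgebraicGeometry.Geometrically.Irreducible
import Mathlib.AlgebraicGeometry.Fiber
import Mathlib.AlgebraicGeometry.Morphisms.Smooth
import Groth.Agent.Dix.NeronEllPts

/-!
# Generic points of the fibres of a geometrically irreducible morphism
-/

set_option autoImplicit false
universe u

open CategoryTheory CategoryTheory.Limits AlgebraicGeometry

namespace Groth.Agent.Sga7.H750.FibGen

section fgp

variable {P Y : Scheme.{u}} (f : P ⟶ Y) [GeometricallyIrreducible f] (y : Y)

/-- The generic point of the fibre of `f` over `y`. -/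
noncomputable def fgp : P := f.fiberι y (genericPoint (f.fiber y))

@[simp]
theorem apply_fgp : f (fgp f y) = y := by
  have h : f.fiberι y (genericPoint (f.fiber y)) ∈ Set.range (f.fiberι y) := ⟨_, rfl⟩
  rw [Scheme.Hom.range_fiberι] at h
  exact h

theorem fgp_specializes {o : P} (h : f o = y) : fgp f y ⤳ o := by
  have h1 : o ∈ Set.range (f.fiberι y) := by rw [Scheme.Hom.range_fiberι]; exact h
  obtain ⟨o', rfl⟩ := h1
  exact (genericPoint_specializes o').map (f.fiberι y).continuous

theorem fgp_mem {O : Set P} (hO : IsOpen O) {o : P} (ho : o ∈ O) (h : f o = y) : fgp f y ∈ O :=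
  (fgp_specializes f y h).mem_open hO ho

theorem fgp_mem_iff {O : Set P} (hO : IsOpen O) : fgp f y ∈ O ↔ ∃ o ∈ O, f o = y :=
  ⟨fun h => ⟨_, h, apply_fgp f y⟩, fun ⟨_, h1, h2⟩ => fgp_mem f y hO h1 h2⟩

variable {f y}

/-- A point of the fibre which generizes all points of a nonempty open subset of the fibre is the generic
point. -/
theorem eq_fgp {p : P} (hp : f p = y) (h : ∀ O : Set P, IsOpen O → (∃ o ∈ O, f o = y) → p ∈ O) :
    p = fgp f y := by
  have h1 : p ⤳ fgp f y := by
    rw [specializes_iff_forall_open]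
    intro O hO hm
    exact h O hO ⟨_, hm, apply_fgp f y⟩
  have h2 : fgp f y ⤳ p := fgp_specializes f y hp
  exact (h1.antisymm h2).eq

/-- A morphism of schemes over `Y` with an open image on a neighbourhood of the generic point of the fibre maps it
to the generic point. -/
theorem map_fgp_aux {W P' : Scheme.{u}} {f' : P' ⟶ Y} [GeometricallyIrreducible f'] (w : W ⟶ P)
    (h : W ⟶ P') (hw : IsOpenImmersion w) (hh : IsOpenMap h) (hc : w ≫ f = h ≫ f') (e : W)
    (he : w e = fgp f y) : h e = fgp f' y := by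
  have hhe : f' (h e) = y := by
    rw [← Scheme.Hom.comp_apply, ← hc, Scheme.Hom.comp_apply, he, apply_fgp]
  apply eq_fgp hhe
  intro O hO hm
  -- the range of `h` meets `O` in the fibre
  have h1 : fgp f' y ∈ Set.range h ∩ O :=
    ⟨fgp_mem f' y hh.isOpen_range ⟨e, rfl⟩ hhe, (fgp_mem_iff f' y hO).2 hm⟩
  obtain ⟨⟨a, ha⟩, haO⟩ := h1
  have h2 : f (w a) = y := by
    rw [← Scheme.Hom.comp_apply, hc, Scheme.Hom.comp_apply, ha, apply_fgp]
  have h3 : fgp f y ∈ w '' (h ⁻¹' O) := by
    refine fgp_mem f y (w.isOpenEmbedding.isOpenMap _ (hO.preimage h.continuous)) ⟨a, ?_, rfl⟩ h2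
    change h a ∈ O
    rw [ha]
    exact haO
  obtain ⟨b, hb, hb'⟩ := h3
  have h4 : b = e := w.isOpenEmbedding.injective (hb'.trans he.symm)
  rw [← h4]
  exact hb

end fgp

section sections

variable {R : Type u} [CommRing R] [IsLocalRing R]

/-- **Specialization at general sections**: `R` strictly henselian local, `X` smooth over `R`, `z` a point of the
closed fibre of `Y`, `O` an open subset of `Y × X` which meets the fibre over `z`. There is a section `a` of `X`
such that the graph of `a` maps `z` to `O`. -/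
theorem exists_section_mem (hR : EtCoh.IsStrictlyHenselianLocalRing R)
    {X Y : Scheme.{u}} (p : X ⟶ Spec (CommRingCat.of R)) [Smooth p] (q : Y ⟶ Spec (CommRingCat.of R))
    (z : Y) (hz : q z = IsLocalRing.closedPoint R) (O : Set ↥(pullback q p)) (hO : IsOpen O)
    (hne : ∃ o ∈ O, pullback.fst q p o = z) :
    ∃ (a : Spec (CommRingCat.of R) ⟶ X) (_ : a ≫ p = 𝟙 _) (γ : Y ⟶ pullback q p),
      γ ≫ pullback.fst q p = 𝟙 _ ∧ γ ≫ pullback.snd q p = q ≫ a ∧ γ z ∈ O := by
  let k := IsLocalRing.ResidueField R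
  let c : Spec (CommRingCat.of k) ⟶ Spec (CommRingCat.of R) :=
    Spec.map (CommRingCat.ofHom (IsLocalRing.residue R))
  have hc : ∀ z, c z = IsLocalRing.closedPoint R := by
    intro z
    have hz : z = IsLocalRing.closedPoint k := Subsingleton.elim (α := PrimeSpectrum k) _ _
    rw [hz]
    exact IsLocalRing.comap_closedPoint (IsLocalRing.residue R)
  have hcc : IsClosedImmersion c := IsClosedImmersion.spec_of_surjective _ Ideal.Quotient.mk_surjective
  obtain ⟨o, hoO, hoz⟩ := hne
  -- the closed fibres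
  let Xk := pullback p c
  let Yk := pullback q c
  -- `Yk ×_k Xk → Y ×_R X`
  let W := pullback (pullback.snd q c) (pullback.snd p c)
  let r : W ⟶ pullback q p := pullback.map _ _ _ _ (pullback.fst q c) (pullback.fst p c) c
    pullback.condition.symm pullback.condition.symm
  have hr1 : r ≫ pullback.fst q p = pullback.fst _ _ ≫ pullback.fst q c := pullback.lift_fst _ _ _
  have hr2 : r ≫ pullback.snd q p = pullback.snd _ _ ≫ pullback.fst p c := pullback.lift_snd _ _ _
  obtain ⟨z', hz'⟩ : ∃ z' : Yk, pullback.fst q c z' = z := by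
    have : z ∈ Set.range (pullback.fst q c) := by
      rw [Scheme.Pullback.range_fst]
      exact ⟨IsLocalRing.closedPoint k, by rw [hc, hz]⟩
    exact this
  -- restrict to the residue field of `z'`
  let κ := Yk.residueField z'
  let ζ : Spec κ ⟶ Yk := Yk.fromSpecResidueField z'
  have hζ : ∀ t, ζ t = z' := by
    intro t
    have : ζ t ∈ Set.range ζ := ⟨t, rfl⟩
    rw [Scheme.range_fromSpecResidueField] at this
    exact this
  let V := pullback (ζ ≫ pullback.snd q c) (pullback.snd p c)
  let s : V ⟶ W := pullback.lift (pullback.fst _ _ ≫ ζ) (pullback.snd _ _) (by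
    rw [Category.assoc, pullback.condition])
  have hs1 : s ≫ pullback.fst _ _ = pullback.fst _ _ ≫ ζ := pullback.lift_fst _ _ _
  have hs2 : s ≫ pullback.snd _ _ = pullback.snd _ _ := pullback.lift_snd _ _ _
  have hkk : Subsingleton ↥(Spec (CommRingCat.of k)) := inferInstanceAs (Subsingleton (PrimeSpectrum k))
  have hopen : UniversallyOpen (ζ ≫ pullback.snd q c) := inferInstance
  have hopen2 : IsOpenMap (pullback.snd (ζ ≫ pullback.snd q c) (pullback.snd p c)) :=
    Scheme.Hom.isOpenMap _
  -- the open subset of `X_k`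
  let O1 : Set Xk := pullback.snd (ζ ≫ pullback.snd q c) (pullback.snd p c) '' ((s ≫ r) ⁻¹' O)
  have hO1 : IsOpen O1 := hopen2 _ (hO.preimage (s ≫ r).continuous)
  obtain ⟨O2, hO2, hO2'⟩ := (pullback.fst p c).isEmbedding.isOpen_iff.1 hO1
  -- the point `o` lifts to `V`
  have hlift : ∃ v : V, (s ≫ r) v = o := by
    have hpb : IsPullback (s ≫ r) (pullback.fst (ζ ≫ pullback.snd q c) (pullback.snd p c)) (pullback.fst q p)
        (ζ ≫ pullback.fst q c) := by
      have hsqX : IsPullback (pullback.fst p c) (pullback.snd p c) p c := IsPullback.of_hasPullback _ _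
      have hV : IsPullback (pullback.snd (ζ ≫ pullback.snd q c) (pullback.snd p c))
        (pullback.fst (ζ ≫ pullback.snd q c) (pullback.snd p c)) (pullback.snd p c)
        (ζ ≫ pullback.snd q c) := (IsPullback.of_hasPullback _ _).flip
      have h1 := hV.paste_horiz hsqX.flip.flip
      have h2 : IsPullback (pullback.snd q p) (pullback.fst q p) p q := (IsPullback.of_hasPullback _ _).flip
      refine IsPullback.of_right (h₁₂ := pullback.snd q p) (h₂₂ := q) (v₁₃ := p) ?_ ?_ h2
      · have e1 : (s ≫ r) ≫ pullback.snd q p =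
          pullback.snd (ζ ≫ pullback.snd q c) (pullback.snd p c) ≫ pullback.fst p c := by
          rw [Category.assoc, hr2, ← Category.assoc, hs2]
        have e2 : (ζ ≫ pullback.fst q c) ≫ q = (ζ ≫ pullback.snd q c) ≫ c := by
          rw [Category.assoc, Category.assoc, pullback.condition]
        rw [e1, e2]
        exact h1
      · rw [Category.assoc, hr1, ← Category.assoc, hs1, Category.assoc]
    obtain ⟨v, hv, -⟩ := Scheme.exists_preimage_of_isPullback hpb o (IsLocalRing.closedPoint κ) (by
      rw [hoz, Scheme.Hom.comp_apply, hζ, hz'])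
    exact ⟨v, hv⟩
  obtain ⟨v, hv⟩ := hlift
  let x' : Xk := pullback.snd (ζ ≫ pullback.snd q c) (pullback.snd p c) v
  have hx' : pullback.fst p c x' ∈ O2 := by
    have : x' ∈ O1 := ⟨v, by change (s ≫ r) v ∈ O; rw [hv]; exact hoO, rfl⟩
    rw [← hO2'] at this
    exact this
  obtain ⟨a, ha, haO⟩ := Groth.Agent.Dix.NeronEllPts.exists_section hR p (pullback.fst p c x') (by
    rw [← Scheme.Hom.comp_apply, pullback.condition, Scheme.Hom.comp_apply, hc]) O2 hO2 hx'
  let γ : Y ⟶ pullback q p := pullback.lift (𝟙 _) (q ≫ a) (by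
    rw [Category.id_comp, Category.assoc, ha, Category.comp_id])
  have hγ1 : γ ≫ pullback.fst q p = 𝟙 _ := pullback.lift_fst _ _ _
  have hγ2 : γ ≫ pullback.snd q p = q ≫ a := pullback.lift_snd _ _ _
  refine ⟨a, ha, γ, hγ1, hγ2, ?_⟩
  -- the point of `X_k` below `a`
  obtain ⟨x₁, hx₁⟩ : ∃ x₁ : Xk, pullback.fst p c x₁ = a (IsLocalRing.closedPoint R) := by
    have : a (IsLocalRing.closedPoint R) ∈ Set.range (pullback.fst p c) := by
      rw [Scheme.Pullback.range_fst]
      refine ⟨IsLocalRing.closedPoint k, ?_⟩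
      rw [hc, ← Scheme.Hom.comp_apply, ha]
      rfl
    exact this
  have hx₁O : x₁ ∈ O1 := by
    rw [← hO2']
    change pullback.fst p c x₁ ∈ O2
    rw [hx₁]
    exact haO
  obtain ⟨v₁, hv₁, hv₁'⟩ := hx₁O
  let o' := (s ≫ r) v₁
  have ho'1 : pullback.fst q p o' = z := by
    change pullback.fst q p ((s ≫ r) v₁) = z
    rw [← Scheme.Hom.comp_apply, Category.assoc, hr1, ← Category.assoc, hs1, Scheme.Hom.comp_apply,
      Scheme.Hom.comp_apply, hζ, hz']
  have ho'2 : pullback.snd q p o' = a (IsLocalRing.closedPoint R) := by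
    change pullback.snd q p ((s ≫ r) v₁) = _
    rw [← Scheme.Hom.comp_apply, Category.assoc, hr2, ← Category.assoc, hs2, Scheme.Hom.comp_apply, hv₁', hx₁]
  -- the graph square is cartesian
  have hpb : IsPullback γ q (pullback.snd q p) a := by
    refine (IsPullback.of_bot (v₂₁ := pullback.fst q p) (v₂₂ := p) (h₃₁ := q) ?_ hγ2.symm
      (IsPullback.of_hasPullback q p).flip).flip
    rw [hγ1, ha]
    exact IsPullback.of_vert_isIso ⟨by rw [Category.id_comp, Category.comp_id]⟩
  obtain ⟨y₁, hy₁, -⟩ := Scheme.exists_preimage_of_isPullback hpb o' (IsLocalRing.closedPoint R) ho'2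
  have hy₁z : y₁ = z := by
    have : (γ ≫ pullback.fst q p) y₁ = z := by rw [Scheme.Hom.comp_apply, hy₁, ho'1]
    rwa [hγ1] at this
  rw [← hy₁z, hy₁]
  exact hv₁

end sections

end Groth.Agent.Sga7.H750.FibGen
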