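import Groth.Agent.Sga7.H750.LocVal

/-!
# Generic points of products and generic translations
-/

set_option autoImplicit false
universe u

open CategoryTheory CategoryTheory.Limits AlgebraicGeometry MonoidalCategory CartesianMonoidalCategory

namespace Groth.Agent.Sga7.H750.GenLaw

open GenOv LocVal FibGen Groth.Agent.Dix.GenFibre

section prod

variable {S : Scheme.{u}}

theorem isPullback_prod (Y X : Over S) : IsPullback (fst Y X).left (snd Y X).left Y.hom X.hom :=
  IsPullback.of_hasPullback Y.hom X.hom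

theorem isPullback_whisker {Y X₁ : Over S} (v : Y ⟶ X₁) (X₂ : Over S) :
    IsPullback (v ▷ X₂).left (fst Y X₂).left (fst X₁ X₂).left v.left := by
  refine IsPullback.of_right (h₁₂ := (snd X₁ X₂).left) (h₂₂ := X₁.hom) (v₁₃ := X₂.hom) ?_ ?_
    (isPullback_prod X₁ X₂).flip
  · rw [← Over.comp_left, whiskerRight_snd, Over.w]
    exact (isPullback_prod Y X₂).flip
  · rw [← Over.comp_left, whiskerRight_fst, Over.comp_left]

/-- Base change of the graph-like morphism `(p, m) : D ⟶ X₁ × X₂` along `v : Y ⟶ X₁`. -/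
theorem isPullback_lift {Y X₁ X₂ D W : Over S} (v : Y ⟶ X₁) (p : D ⟶ X₁) (m : D ⟶ X₂) (a : W ⟶ Y) (b : W ⟶ D)
    (h : IsPullback a.left b.left v.left p.left) :
    IsPullback (lift a (b ≫ m)).left b.left (v ▷ X₂).left (lift p m).left := by
  have hab : a ≫ v = b ≫ p := Over.OverMorphism.ext h.w
  refine (IsPullback.of_bot (v₂₁ := (fst Y X₂).left) (v₂₂ := (fst X₁ X₂).left) (h₃₁ := v.left) ?_ ?_
    (isPullback_whisker v X₂)).flip
  · rw [← Over.comp_left, ← Over.comp_left, lift_fst, lift_fst]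
    exact h.flip
  · rw [← Over.comp_left, ← Over.comp_left]
    congr 1
    ext1
    · simp [hab]
    · simp

theorem isOpenImmersion_lift {Y X₁ X₂ D W : Over S} (v : Y ⟶ X₁) (p : D ⟶ X₁) (m : D ⟶ X₂) (a : W ⟶ Y)
    (b : W ⟶ D) (h : IsPullback a.left b.left v.left p.left) (ho : IsOpenImmersion (lift p m).left) :
    IsOpenImmersion (lift a (b ≫ m)).left :=
  MorphismProperty.of_isPullback (isPullback_lift v p m a b h).flip ho

instance geomIrred_fst (Y X : Over S) [GeometricallyIrreducible X.hom] :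
    GeometricallyIrreducible (fst Y X).left :=
  inferInstanceAs (GeometricallyIrreducible (pullback.fst Y.hom X.hom))

/-- The generic point of the fibre of `Y × X` over the point `y` of `Y`. -/
noncomputable def eta (Y X : Over S) [GeometricallyIrreducible X.hom] (y : Y.left) : (Y ⊗ X).left :=
  fgp (fst Y X).left y

theorem fst_eta (Y X : Over S) [GeometricallyIrreducible X.hom] (y : Y.left) :
    (fst Y X).left (eta Y X y) = y := apply_fgp _ _

theorem eta_mem {Y X : Over S} [GeometricallyIrreducible X.hom] {y : Y.left} {O : Set (Y ⊗ X).left}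
    (hO : IsOpen O) {o : (Y ⊗ X).left} (ho : o ∈ O) (h : (fst Y X).left o = y) : eta Y X y ∈ O :=
  fgp_mem _ _ hO ho h

/-- Open immersions over `Y` respect the generic points of the fibres. -/
theorem map_eta {Y X X' W : Over S} [GeometricallyIrreducible X.hom] [GeometricallyIrreducible X'.hom]
    (t : W ⟶ Y ⊗ X) (g : W ⟶ Y ⊗ X') (ht : IsOpenImmersion t.left) (hg : IsOpenImmersion g.left)
    (h : t ≫ fst Y X = g ≫ fst Y X') (y : Y.left) (w : W.left) (hw : t.left w = eta Y X y) :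
    g.left w = eta Y X' y :=
  map_fgp_aux t.left g.left ht g.left.isOpenEmbedding.isOpenMap (congrArg CommaMorphism.left h) w hw

theorem whisker_eta {Y X X' : Over S} [GeometricallyIrreducible X.hom] [GeometricallyIrreducible X'.hom]
    (g : X ⟶ X') (hg : IsOpenImmersion g.left) (y : Y.left) :
    (Y ◁ g).left (eta Y X y) = eta Y X' y := by
  have h1 : IsPullback (Y ◁ g).left (snd Y X).left (snd Y X').left g.left := by
    refine IsPullback.of_right (h₁₂ := (fst Y X').left) (h₂₂ := X'.hom) (v₁₃ := Y.hom) ?_ ?_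
      (isPullback_prod Y X')
    · rw [← Over.comp_left, whiskerLeft_fst, Over.w]
      exact isPullback_prod Y X
    · rw [← Over.comp_left, whiskerLeft_snd, Over.comp_left]
  have h2 : IsOpenImmersion (Y ◁ g).left := MorphismProperty.of_isPullback h1.flip hg
  exact map_eta (𝟙 _) (Y ◁ g) (inferInstanceAs (IsOpenImmersion (𝟙 (Y ⊗ X).left))) h2 (by simp) y _ rfl

end prod

variable {R : Type u} [CommRing R]

local notation "𝒮" => Over (Spec (CommRingCat.of R))
local notation "𝒦" => Over (Spec (CommRingCat.of (FractionRing R)))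
local notation "F" => Neron.genericFibre R

/-- The chart `Y × X` of `F Y × B` attached to the chart `X` of `B`. -/
noncomputable def chY (Y : 𝒮) {X : 𝒮} {B : 𝒦} (ξ : (F).obj X ⟶ B) : (F).obj (Y ⊗ X) ⟶ (F).obj Y ⊗ B :=
  lift ((F).map (fst Y X)) ((F).map (snd Y X) ≫ ξ)

@[reassoc (attr := simp)]
theorem chY_fst (Y : 𝒮) {X : 𝒮} {B : 𝒦} (ξ : (F).obj X ⟶ B) : chY Y ξ ≫ fst _ _ = (F).map (fst Y X) :=
  lift_fst _ _

@[reassoc (attr := simp)]
theorem chY_snd (Y : 𝒮) {X : 𝒮} {B : 𝒦} (ξ : (F).obj X ⟶ B) : chY Y ξ ≫ snd _ _ = (F).map (snd Y X) ≫ ξ :=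
  lift_snd _ _

/-- **Generic translations.** `D` is a correspondence with open immersions `(p, m)`, `(p, m')`, where the generic
value of `m'` is the function `α` of the generic values of `p` and `m`. If the value `v y` is in the image of `p`
then `t ↦ α (v, t)` is defined at the generic point of the fibre over `y` and maps it to the generic point. -/
theorem val_generic {Y X₁ X₂ X₃ D : 𝒮} [GeometricallyIrreducible X₂.hom] [GeometricallyIrreducible X₃.hom]
    {B₁ B₂ B₃ : 𝒦} (ξ₁ : (F).obj X₁ ⟶ B₁) (ξ₂ : (F).obj X₂ ⟶ B₂) (ξ₃ : (F).obj X₃ ⟶ B₃)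
    (p : D ⟶ X₁) (m : D ⟶ X₂) (m' : D ⟶ X₃) (hm : IsOpenImmersion (lift p m).left)
    (hm' : IsOpenImmersion (lift p m').left) (α : B₁ ⊗ B₂ ⟶ B₃)
    (hα : (F).map m' ≫ ξ₃ = lift ((F).map p ≫ ξ₁) ((F).map m ≫ ξ₂) ≫ α)
    (v : Y ⟶ X₁) (y : Y.left) (q : D.left) (hq : p.left q = v.left y) :
    Val (chY Y ξ₃) (lift ((F).map (fst Y X₂)) (lift ((F).map (fst Y X₂ ≫ v) ≫ ξ₁) ((F).map (snd Y X₂) ≫ ξ₂) ≫ α))
      (eta Y X₂ y) (eta Y X₃ y) := by
  obtain ⟨w, hw1, hw2⟩ := Scheme.Pullback.exists_preimage_pullback (f := v.left) (g := p.left) y q hq.symm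
  let W : 𝒮 := Over.mk (pullback.fst v.left p.left ≫ Y.hom)
  let a : W ⟶ Y := Over.homMk (pullback.fst v.left p.left) rfl
  let b : W ⟶ D := Over.homMk (pullback.snd v.left p.left) (by
    change pullback.snd v.left p.left ≫ D.hom = pullback.fst v.left p.left ≫ Y.hom
    rw [← Over.w v, ← Over.w p, pullback.condition_assoc])
  have hpb : IsPullback a.left b.left v.left p.left := IsPullback.of_hasPullback v.left p.left
  have hab : a ≫ v = b ≫ p := Over.OverMorphism.ext hpb.w
  have ht := isOpenImmersion_lift v p m a b hpb hm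
  have hg := isOpenImmersion_lift v p m' a b hpb hm'
  obtain ⟨e, he⟩ : eta Y X₂ y ∈ Set.range (lift a (b ≫ m)).left := by
    refine eta_mem (lift a (b ≫ m)).left.isOpenEmbedding.isOpen_range ⟨w, rfl⟩ ?_
    rw [← Scheme.Hom.comp_apply, ← Over.comp_left, lift_fst]
    exact hw1
  refine ⟨W, lift a (b ≫ m), lift a (b ≫ m'), e, ht, he, ?_, ?_⟩
  · exact map_eta _ _ ht hg (by rw [lift_fst, lift_fst]) y e he
  · ext1
    · rw [Category.assoc, chY_fst, ← Functor.map_comp, lift_fst, Category.assoc, lift_fst, ← Functor.map_comp,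
        lift_fst]
    · rw [Category.assoc, chY_snd, ← Category.assoc, ← Functor.map_comp, lift_snd, Functor.map_comp,
        Category.assoc, hα, Category.assoc, lift_snd, ← Category.assoc, ← Category.assoc]
      congr 1
      ext1
      · simp only [Category.assoc, lift_fst, ← Functor.map_comp_assoc]
        rw [← Category.assoc, lift_fst, hab]
      · simp only [Category.assoc, lift_snd, ← Functor.map_comp_assoc]

/-- Specialization at sections. -/
theorem exists_section_mem [IsLocalRing R] (hR : EtCoh.IsStrictlyHenselianLocalRing R) {Y X : 𝒮} [Smooth X.hom]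
    [GeometricallyIrreducible X.hom]
    (z : Y.left) (hz : Y.hom z = IsLocalRing.closedPoint R) (O : Set (Y ⊗ X).left) (hO : IsOpen O)
    (hm : eta Y X z ∈ O) : ∃ a : 𝟙_ 𝒮 ⟶ X, (lift (𝟙 Y) (toUnit Y ≫ a)).left z ∈ O := by
  obtain ⟨a, ha, γ, hγ1, hγ2, hγ⟩ := FibGen.exists_section_mem hR X.hom Y.hom z hz O hO ⟨_, hm, fst_eta Y X z⟩
  let a' : 𝟙_ 𝒮 ⟶ X := Over.homMk a ha
  refine ⟨a', ?_⟩
  have h : (lift (𝟙 Y) (toUnit Y ≫ a')).left = γ := by
    apply pullback.hom_ext
    · rw [hγ1]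
      change (lift (𝟙 Y) (toUnit Y ≫ a')).left ≫ (fst Y X).left = _
      rw [← Over.comp_left, lift_fst]
      rfl
    · rw [hγ2]
      change (lift (𝟙 Y) (toUnit Y ≫ a')).left ≫ (snd Y X).left = _
      rw [← Over.comp_left, lift_snd]
      rfl
  rw [h]
  exact hγ

/-- Specialization of values at sections. -/
theorem Val.exists_section [IsLocalRing R] (hR : EtCoh.IsStrictlyHenselianLocalRing R) {Y X X' : 𝒮}
    [Smooth X.hom] [GeometricallyIrreducible X.hom] {B : 𝒦} {ξ : (F).obj X' ⟶ B} {φ : (F).obj (Y ⊗ X) ⟶ B}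
    {z : Y.left} (hz : Y.hom z = IsLocalRing.closedPoint R) {x' : X'.left}
    (h : Val ξ φ (eta Y X z) x') (O : Set X'.left) (hO : IsOpen O) (hx' : x' ∈ O) :
    ∃ a : 𝟙_ 𝒮 ⟶ X, ∃ x'' ∈ O, Val ξ ((F).map (lift (𝟙 Y) (toUnit Y ≫ a)) ≫ φ) z x'' := by
  obtain ⟨a, x'', hx'', hv⟩ := exists_section_mem hR z hz _ (isOpen_val_mem ξ φ O hO) ⟨x', hx', h⟩
  exact ⟨a, x'', hx'', hv.comp _⟩

end Groth.Agent.Sga7.H750.GenLaw
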