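import Groth.Agent.Sga7.H750.GenOv
import Mathlib.AlgebraicGeometry.Morphisms.OpenImmersion
import Mathlib.AlgebraicGeometry.Morphisms.Immersion

/-!
# Gluing schemes over a domain along their generic fibres

`R` a domain, `A` a scheme over the fraction field. A `Charts A` is a family of flat separated `R`-schemes
`X i` with monomorphisms `γ i` from the generic fibres to `A`. The charts are glued along the largest opens
`P i j` of `X i` on which the identity of `A` induces an open immersion to `X j`. If the images of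
`P i j ⟶ X i ×_R X j` are closed the result is separated.
-/

set_option autoImplicit false
universe u

open CategoryTheory CategoryTheory.Limits AlgebraicGeometry

namespace Groth.Agent.Sga7.H750.Glue

open Groth.Agent.Picfga.OverRep (res pointCover hom_ext_cover Cov)
open GenOv

variable {R : Type u} [CommRing R] [IsDomain R]

/-- Charts. -/
structure Charts (A : Over (Spec (CommRingCat.of (FractionRing R)))) where
  /-- index type -/
  J : Type u
  /-- charts -/
  X : J → Over (Spec (CommRingCat.of R))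
  /-- identification of the generic fibres with subschemes of `A` -/
  γ : ∀ i, (Neron.genericFibre R).obj (X i) ⟶ A
  flat : ∀ i, Flat (X i).hom
  sep : ∀ i, IsSeparated (X i).hom
  mono : ∀ i, Mono (γ i)

attribute [instance] Charts.flat Charts.sep Charts.mono

variable {A : Over (Spec (CommRingCat.of (FractionRing R)))}

namespace Charts

variable (D : Charts A)

theorem ext (i : D.J) {T : Over (Spec (CommRingCat.of R))} [Flat T.hom] {a b : T ⟶ D.X i}
    (h : (Neron.genericFibre R).map a ≫ D.γ i = (Neron.genericFibre R).map b ≫ D.γ i) : a = b :=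
  Dix.GenExtUniq.ext_of_genericFibre ((cancel_mono (D.γ i)).1 h)

/-- Two open immersions to charts which agree on the generic fibre. -/
structure IsPair {i j : D.J} {T : Over (Spec (CommRingCat.of R))} (a : T ⟶ D.X i) (b : T ⟶ D.X j) : Prop where
  fst : IsOpenImmersion a.left
  snd : IsOpenImmersion b.left
  eq : (Neron.genericFibre R).map a ≫ D.γ i = (Neron.genericFibre R).map b ≫ D.γ j

omit [IsDomain R] in
variable {D} in
theorem IsPair.symm {i j : D.J} {T : Over (Spec (CommRingCat.of R))} {a : T ⟶ D.X i} {b : T ⟶ D.X j}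
    (h : D.IsPair a b) : D.IsPair b a := ⟨h.snd, h.fst, h.eq.symm⟩

omit [IsDomain R] in
variable {D} in
theorem IsPair.comp {i j : D.J} {T T' : Over (Spec (CommRingCat.of R))} {a : T ⟶ D.X i} {b : T ⟶ D.X j}
    (h : D.IsPair a b) (t : T' ⟶ T) (ht : IsOpenImmersion t.left) : D.IsPair (t ≫ a) (t ≫ b) :=
  ⟨isOpenImmersion_comp _ _ ht h.fst, isOpenImmersion_comp _ _ ht h.snd, by
    rw [Functor.map_comp, Functor.map_comp, Category.assoc, Category.assoc, h.eq]⟩

/-- The largest open of `X i` which is identified with an open of `X j`. -/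
noncomputable def dom (i j : D.J) : (D.X i).left.Opens :=
  ⨆ (p : {U : (D.X i).left.Opens // ∃ b : Over.mk (U.ι ≫ (D.X i).hom) ⟶ D.X j,
    D.IsPair (res (D.X i) U) b}), p.1

omit [IsDomain R] in
theorem mem_dom_iff {i j : D.J} (x : (D.X i).left) : x ∈ D.dom i j ↔
    ∃ (U : (D.X i).left.Opens) (b : Over.mk (U.ι ≫ (D.X i).hom) ⟶ D.X j), x ∈ U ∧
      D.IsPair (res (D.X i) U) b := by
  rw [dom, TopologicalSpace.Opens.mem_iSup]
  constructor
  · rintro ⟨⟨U, b, hb⟩, hx⟩
    exact ⟨U, b, hx, hb⟩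
  · rintro ⟨U, b, hx, hb⟩
    exact ⟨⟨U, b, hb⟩, hx⟩

omit [IsDomain R] in
theorem mem_dom_of_isPair {i j : D.J} {T : Over (Spec (CommRingCat.of R))} {a : T ⟶ D.X i} {b : T ⟶ D.X j}
    (h : D.IsPair a b) (t : T.left) : a.left t ∈ D.dom i j := by
  have := h.fst
  have := h.snd
  rw [mem_dom_iff]
  let U := a.left.opensRange
  let e : Over.mk (U.ι ≫ (D.X i).hom) ⟶ T := Over.homMk (IsOpenImmersion.lift a.left U.ι (by
      rw [Scheme.Opens.range_ι]; rfl)) (by
    rw [← Over.w a, IsOpenImmersion.lift_fac_assoc]; rfl)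
  have he : e ≫ a = res (D.X i) U := by
    ext
    exact IsOpenImmersion.lift_fac _ _ _
  have hel : e.left ≫ a.left = U.ι := congrArg CommaMorphism.left he
  have he' : IsOpenImmersion e.left := by
    have : IsOpenImmersion (e.left ≫ a.left) := by rw [hel]; infer_instance
    exact IsOpenImmersion.of_comp e.left a.left
  refine ⟨U, e ≫ b, ⟨t, rfl⟩, ?_⟩
  rw [← he]
  exact h.comp e he'

/-- The overlap of the charts `i` and `j`. -/
noncomputable def P (i j : D.J) : Over (Spec (CommRingCat.of R)) :=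
  Over.mk ((D.dom i j).ι ≫ (D.X i).hom)

/-- The inclusion of the overlap in `X i`. -/
noncomputable def p₁ (i j : D.J) : D.P i j ⟶ D.X i := res (D.X i) _

instance (i j : D.J) : IsOpenImmersion (D.p₁ i j).left :=
  inferInstanceAs (IsOpenImmersion ((D.dom i j).ι))

instance (i j : D.J) : Flat (D.P i j).hom := flat_of_isOpenImmersion (D.p₁ i j)

theorem exists_p₂ (i j : D.J) : ∃ b : D.P i j ⟶ D.X j, D.IsPair (D.p₁ i j) b := by
  have key : ∀ x : (D.P i j).left, ∃ (U : (D.P i j).left.Opens)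
      (b : Over.mk (U.ι ≫ (D.P i j).hom) ⟶ D.X j), x ∈ U ∧
      D.IsPair (res (D.P i j) U ≫ D.p₁ i j) b := by
    intro x
    have hx : (D.p₁ i j).left x ∈ D.dom i j := x.2
    obtain ⟨U, b, hxU, hb⟩ := (D.mem_dom_iff _).1 hx
    let V : (D.P i j).left.Opens := (D.p₁ i j).left ⁻¹ᵁ U
    let r : Over.mk (V.ι ≫ (D.P i j).hom) ⟶ Over.mk (U.ι ≫ (D.X i).hom) :=
      Over.homMk ((D.p₁ i j).left ∣_ U) (by
        simp only [Over.mk_hom, morphismRestrict_ι_assoc]
        rw [Over.w])
    have hr : r ≫ res (D.X i) U = res (D.P i j) V ≫ D.p₁ i j := by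
      ext
      exact morphismRestrict_ι _ _
    have hr' : IsOpenImmersion r.left :=
      inferInstanceAs (IsOpenImmersion ((D.p₁ i j).left ∣_ U))
    exact ⟨V, r ≫ b, hxU, hr ▸ hb.comp r hr'⟩
  choose U b hU hb using key
  have hflat : ∀ x, Flat (Over.mk ((U x).ι ≫ (D.P i j).hom)).hom := fun x =>
    flat_of_isOpenImmersion (res (D.P i j) (U x))
  have compat : ∀ (x y : (D.P i j).left) (W : Over (Spec (CommRingCat.of R)))
      (s : W ⟶ Over.mk ((U x).ι ≫ (D.P i j).hom)) (t : W ⟶ Over.mk ((U y).ι ≫ (D.P i j).hom)),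
      IsOpenImmersion s.left → IsOpenImmersion t.left →
      s ≫ res (D.P i j) (U x) = t ≫ res (D.P i j) (U y) → s ≫ b x = t ≫ b y := by
    intro x y W s t hs ht hst
    have := hflat x
    have : Flat W.hom := flat_of_isOpenImmersion s
    apply D.ext j
    rw [Functor.map_comp _ s, Functor.map_comp _ t, Category.assoc, Category.assoc, ← (hb x).eq, ← (hb y).eq,
      ← Category.assoc, ← Category.assoc, ← Functor.map_comp, ← Functor.map_comp, ← Category.assoc,
      ← Category.assoc, hst]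
  obtain ⟨k, hk⟩ := glue_hom' (D.P i j) (D.X j) (pointCover (D.P i j) U hU) b compat
  have hk' : ∀ x, res (D.P i j) (U x) ≫ k = b x := hk
  have heq : (Neron.genericFibre R).map (D.p₁ i j) ≫ D.γ i = (Neron.genericFibre R).map k ≫ D.γ j := by
    refine genHom_ext_cover _ (pointCover (D.P i j) U hU) _ _ ?_
    intro x
    change (Neron.genericFibre R).map (res (D.P i j) (U x)) ≫ _ =
      (Neron.genericFibre R).map (res (D.P i j) (U x)) ≫ _
    rw [← Category.assoc, ← Functor.map_comp, (hb x).eq, ← Category.assoc, ← Functor.map_comp, hk' x]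
  refine ⟨k, inferInstance, ?_, heq⟩
  refine IsOpenImmersion.of_forall_source_exists k.left ?_ ?_
  · intro x y hxy
    -- the fibre product of the two neighbourhoods over `X j`
    have hbx := (hb x).snd
    have hby := (hb y).snd
    let x' : (Over.mk ((U x).ι ≫ (D.P i j).hom)).left := ⟨x, hU x⟩
    let y' : (Over.mk ((U y).ι ≫ (D.P i j).hom)).left := ⟨y, hU y⟩
    have hx' : (res (D.P i j) (U x)).left x' = x := rfl
    have hy' : (res (D.P i j) (U y)).left y' = y := rfl
    have hxy' : (b x).left x' = (b y).left y' := by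
      rw [← hk' x, ← hk' y, Over.comp_left, Over.comp_left, Scheme.Hom.comp_apply, Scheme.Hom.comp_apply,
        hx', hy', hxy]
    obtain ⟨w, hw1, hw2⟩ := Scheme.Pullback.exists_preimage_pullback x' y' hxy'
    let W : Over (Spec (CommRingCat.of R)) :=
      Over.mk (pullback.fst (b x).left (b y).left ≫ (Over.mk ((U x).ι ≫ (D.P i j).hom)).hom)
    let s : W ⟶ Over.mk ((U x).ι ≫ (D.P i j).hom) := Over.homMk (pullback.fst (b x).left (b y).left) rfl
    let t : W ⟶ Over.mk ((U y).ι ≫ (D.P i j).hom) := Over.homMk (pullback.snd (b x).left (b y).left) (by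
      change pullback.snd (b x).left (b y).left ≫ _ = pullback.fst (b x).left (b y).left ≫ _
      rw [← Over.w (b x), ← Over.w (b y), pullback.condition_assoc])
    have hst : s ≫ b x = t ≫ b y := by
      ext
      exact pullback.condition
    have := hflat x
    have hs : IsOpenImmersion s.left := inferInstanceAs (IsOpenImmersion (pullback.fst (b x).left (b y).left))
    have : Flat W.hom := flat_of_isOpenImmersion s
    have h1 : s ≫ res (D.P i j) (U x) ≫ D.p₁ i j = t ≫ res (D.P i j) (U y) ≫ D.p₁ i j := by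
      apply D.ext i
      rw [Functor.map_comp, Category.assoc, (hb x).eq, Functor.map_comp, Category.assoc, (hb y).eq,
        ← Category.assoc, ← Category.assoc, ← Functor.map_comp, ← Functor.map_comp, hst]
    have h2 : (s ≫ res (D.P i j) (U x) ≫ D.p₁ i j).left w = (t ≫ res (D.P i j) (U y) ≫ D.p₁ i j).left w := by
      rw [h1]
    have h3 : (D.p₁ i j).left x = (D.p₁ i j).left y := by
      have e1 : (s ≫ res (D.P i j) (U x) ≫ D.p₁ i j).left w = (D.p₁ i j).left x := by
        rw [Over.comp_left, Over.comp_left, Scheme.Hom.comp_apply, Scheme.Hom.comp_apply]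
        have : s.left w = x' := hw1
        rw [this, hx']
      have e2 : (t ≫ res (D.P i j) (U y) ≫ D.p₁ i j).left w = (D.p₁ i j).left y := by
        rw [Over.comp_left, Over.comp_left, Scheme.Hom.comp_apply, Scheme.Hom.comp_apply]
        have : t.left w = y' := hw2
        rw [this, hy']
      rw [← e1, ← e2, h2]
    exact (D.p₁ i j).left.isOpenEmbedding.injective h3
  · intro x
    refine ⟨_, (res (D.P i j) (U x)).left, inferInstance, ⟨⟨x, hU x⟩, rfl⟩, ?_⟩
    have : (res (D.P i j) (U x)).left ≫ k.left = (b x).left := by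
      rw [← Over.comp_left, hk' x]
    rw [this]
    exact (hb x).snd

/-- The inclusion of the overlap in `X j`. -/
noncomputable def p₂ (i j : D.J) : D.P i j ⟶ D.X j := (D.exists_p₂ i j).choose

theorem isPair (i j : D.J) : D.IsPair (D.p₁ i j) (D.p₂ i j) := (D.exists_p₂ i j).choose_spec

instance (i j : D.J) : IsOpenImmersion (D.p₂ i j).left := (D.isPair i j).snd

instance (i j : D.J) : Mono (D.p₁ i j) := by
  constructor
  intro T a b h
  ext
  have : a.left ≫ (D.p₁ i j).left = b.left ≫ (D.p₁ i j).left := by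
    simpa using congr_arg CommaMorphism.left h
  exact (cancel_mono (D.p₁ i j).left).1 this

theorem exists_liftP {i j : D.J} {T : Over (Spec (CommRingCat.of R))} {a : T ⟶ D.X i} {b : T ⟶ D.X j}
    (h : D.IsPair a b) : ∃ l : T ⟶ D.P i j, l ≫ D.p₁ i j = a ∧ l ≫ D.p₂ i j = b := by
  have := h.fst
  have hT : Flat T.hom := flat_of_isOpenImmersion a
  have hr : ∀ t : T.left, a.left t ∈ D.dom i j := D.mem_dom_of_isPair h
  let l' : T.left ⟶ (D.dom i j).toScheme :=
    IsOpenImmersion.lift (D.dom i j).ι a.left (by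
      rintro _ ⟨t, rfl⟩
      simpa using hr t)
  have hl' : l' ≫ (D.dom i j).ι = a.left := IsOpenImmersion.lift_fac _ _ _
  let l : T ⟶ D.P i j := Over.homMk l' (by
    simp only [P, Over.mk_hom, reassoc_of% hl']
    simp)
  have hl : l ≫ D.p₁ i j = a := by
    ext
    exact hl'
  refine ⟨l, hl, D.ext j ?_⟩
  rw [Functor.map_comp, Category.assoc, ← (D.isPair i j).eq, ← Category.assoc, ← Functor.map_comp, hl, h.eq]

/-- universal property of `P i j`. -/
noncomputable def liftP {i j : D.J} {T : Over (Spec (CommRingCat.of R))} (a : T ⟶ D.X i) (b : T ⟶ D.X j)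
    (h : D.IsPair a b) : T ⟶ D.P i j :=
  (D.exists_liftP h).choose

@[reassoc (attr := simp)]
theorem liftP_p₁ {i j : D.J} {T : Over (Spec (CommRingCat.of R))} (a : T ⟶ D.X i) (b : T ⟶ D.X j)
    (h : D.IsPair a b) : D.liftP a b h ≫ D.p₁ i j = a :=
  (D.exists_liftP h).choose_spec.1

@[reassoc (attr := simp)]
theorem liftP_p₂ {i j : D.J} {T : Over (Spec (CommRingCat.of R))} (a : T ⟶ D.X i) (b : T ⟶ D.X j)
    (h : D.IsPair a b) : D.liftP a b h ≫ D.p₂ i j = b :=
  (D.exists_liftP h).choose_spec.2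

omit [IsDomain R] in
theorem P_hom_ext {i j : D.J} {T : Over (Spec (CommRingCat.of R))} (a b : T ⟶ D.P i j)
    (h : a ≫ D.p₁ i j = b ≫ D.p₁ i j) : a = b := (cancel_mono _).1 h

/-- transition -/
noncomputable def tr (i j : D.J) : D.P i j ⟶ D.P j i :=
  D.liftP (D.p₂ i j) (D.p₁ i j) (D.isPair i j).symm

@[reassoc (attr := simp)]
theorem tr_p₁ (i j : D.J) : D.tr i j ≫ D.p₁ j i = D.p₂ i j := by simp [tr]

@[reassoc (attr := simp)]
theorem tr_p₂ (i j : D.J) : D.tr i j ≫ D.p₂ j i = D.p₁ i j := by simp [tr]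

/-- triple intersections. -/
noncomputable def P₃ (i j k : D.J) : Over (Spec (CommRingCat.of R)) :=
  Over.mk (pullback.fst (D.p₁ i j).left (D.p₁ i k).left ≫ (D.P i j).hom)

/-- first projection -/
noncomputable def q₁ (i j k : D.J) : D.P₃ i j k ⟶ D.P i j :=
  Over.homMk (pullback.fst (D.p₁ i j).left (D.p₁ i k).left) rfl

/-- second projection -/
noncomputable def q₂ (i j k : D.J) : D.P₃ i j k ⟶ D.P i k :=
  Over.homMk (pullback.snd (D.p₁ i j).left (D.p₁ i k).left) (by
    have h1 := Over.w (D.p₁ i j)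
    have h2 := Over.w (D.p₁ i k)
    change pullback.snd (D.p₁ i j).left (D.p₁ i k).left ≫ (D.P i k).hom =
      pullback.fst (D.p₁ i j).left (D.p₁ i k).left ≫ (D.P i j).hom
    rw [← h2, ← h1, ← pullback.condition_assoc])

instance (i j k : D.J) : IsOpenImmersion (D.q₁ i j k).left :=
  inferInstanceAs (IsOpenImmersion (pullback.fst (D.p₁ i j).left (D.p₁ i k).left))

instance (i j k : D.J) : IsOpenImmersion (D.q₂ i j k).left :=
  inferInstanceAs (IsOpenImmersion (pullback.snd (D.p₁ i j).left (D.p₁ i k).left))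

omit [IsDomain R] in
@[reassoc]
theorem q_condition (i j k : D.J) : D.q₁ i j k ≫ D.p₁ i j = D.q₂ i j k ≫ D.p₁ i k := by
  ext
  exact pullback.condition

theorem P₃_hom_ext {i j k : D.J} {T : Over (Spec (CommRingCat.of R))} (a b : T ⟶ D.P₃ i j k)
    (h : a ≫ D.q₁ i j k ≫ D.p₁ i j = b ≫ D.q₁ i j k ≫ D.p₁ i j) : a = b := by
  have h1 : a ≫ D.q₁ i j k = b ≫ D.q₁ i j k := D.P_hom_ext _ _ (by simpa using h)
  have h2 : a ≫ D.q₂ i j k = b ≫ D.q₂ i j k := D.P_hom_ext _ _ (by
    simpa [q_condition] using h)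
  ext
  apply pullback.hom_ext
  · exact congr_arg CommaMorphism.left h1
  · exact congr_arg CommaMorphism.left h2

omit [IsDomain R] in
theorem exists_lift₃ {i j k : D.J} {T : Over (Spec (CommRingCat.of R))} (a : T ⟶ D.P i j) (b : T ⟶ D.P i k)
    (h : a ≫ D.p₁ i j = b ≫ D.p₁ i k) :
    ∃ l : T ⟶ D.P₃ i j k, l ≫ D.q₁ i j k = a ∧ l ≫ D.q₂ i j k = b := by
  have h' : a.left ≫ (D.p₁ i j).left = b.left ≫ (D.p₁ i k).left := by
    simpa using congr_arg CommaMorphism.left h
  refine ⟨Over.homMk (pullback.lift a.left b.left h') ?_, ?_, ?_⟩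
  · simp only [P₃, Over.mk_hom, pullback.lift_fst_assoc]
    exact Over.w a
  · ext; exact pullback.lift_fst _ _ _
  · ext; exact pullback.lift_snd _ _ _

/-- lift to triple intersections -/
noncomputable def lift₃ {i j k : D.J} {T : Over (Spec (CommRingCat.of R))} (a : T ⟶ D.P i j) (b : T ⟶ D.P i k)
    (h : a ≫ D.p₁ i j = b ≫ D.p₁ i k) : T ⟶ D.P₃ i j k := (D.exists_lift₃ a b h).choose

@[reassoc (attr := simp)]
theorem lift₃_q₁ {i j k : D.J} {T : Over (Spec (CommRingCat.of R))} (a : T ⟶ D.P i j) (b : T ⟶ D.P i k)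
    (h : a ≫ D.p₁ i j = b ≫ D.p₁ i k) : D.lift₃ a b h ≫ D.q₁ i j k = a :=
  (D.exists_lift₃ a b h).choose_spec.1

@[reassoc (attr := simp)]
theorem lift₃_q₂ {i j k : D.J} {T : Over (Spec (CommRingCat.of R))} (a : T ⟶ D.P i j) (b : T ⟶ D.P i k)
    (h : a ≫ D.p₁ i j = b ≫ D.p₁ i k) : D.lift₃ a b h ≫ D.q₂ i j k = b :=
  (D.exists_lift₃ a b h).choose_spec.2

theorem isPair₃ (i j k : D.J) : D.IsPair (D.q₁ i j k ≫ D.p₂ i j) (D.q₂ i j k ≫ D.p₂ i k) where
  fst := isOpenImmersion_comp _ _ inferInstance inferInstance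
  snd := isOpenImmersion_comp _ _ inferInstance inferInstance
  eq := by
    rw [Functor.map_comp, Functor.map_comp, Category.assoc, Category.assoc, ← (D.isPair i j).eq,
      ← (D.isPair i k).eq, ← Category.assoc, ← Category.assoc, ← Functor.map_comp, ← Functor.map_comp,
      q_condition]

/-- transition on triple intersections -/
noncomputable def tr₃ (i j k : D.J) : D.P₃ i j k ⟶ D.P₃ j k i :=
  D.lift₃ (D.liftP (D.q₁ i j k ≫ D.p₂ i j) (D.q₂ i j k ≫ D.p₂ i k) (D.isPair₃ i j k))
    (D.q₁ i j k ≫ D.tr i j) (by simp)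

@[reassoc]
theorem tr₃_q₁_p₁ (i j k : D.J) :
    D.tr₃ i j k ≫ D.q₁ j k i ≫ D.p₁ j k = D.q₁ i j k ≫ D.p₂ i j := by
  simp [tr₃]

@[reassoc]
theorem tr₃_q₁_p₂ (i j k : D.J) :
    D.tr₃ i j k ≫ D.q₁ j k i ≫ D.p₂ j k = D.q₂ i j k ≫ D.p₂ i k := by
  simp [tr₃]

@[reassoc]
theorem tr₃_q₂ (i j k : D.J) :
    D.tr₃ i j k ≫ D.q₂ j k i = D.q₁ i j k ≫ D.tr i j := by
  simp [tr₃]

theorem tr₃_cocycle (i j k : D.J) : D.tr₃ i j k ≫ D.tr₃ j k i ≫ D.tr₃ k i j = 𝟙 _ := by
  apply D.P₃_hom_ext
  simp only [Category.assoc, Category.id_comp]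
  rw [tr₃_q₁_p₁, tr₃_q₁_p₂, tr₃_q₂_assoc, tr_p₂]

omit [IsDomain R] in
theorem isPair_refl (i : D.J) : D.IsPair (𝟙 (D.X i)) (𝟙 (D.X i)) where
  fst := inferInstanceAs (IsOpenImmersion (𝟙 (D.X i).left))
  snd := inferInstanceAs (IsOpenImmersion (𝟙 (D.X i).left))
  eq := rfl

/-- The gluing datum. -/
noncomputable def glueData : Scheme.GlueData.{u} where
  J := D.J
  U i := (D.X i).left
  V ij := (D.P ij.1 ij.2).left
  f i j := (D.p₁ i j).left
  f_id i := by
    have h : D.liftP (𝟙 (D.X i)) (𝟙 (D.X i)) (D.isPair_refl i) ≫ D.p₁ i i = 𝟙 _ := by simp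
    have h' : D.p₁ i i ≫ D.liftP (𝟙 (D.X i)) (𝟙 (D.X i)) (D.isPair_refl i) = 𝟙 _ :=
      D.P_hom_ext _ _ (by simp)
    exact ⟨(D.liftP (𝟙 (D.X i)) (𝟙 (D.X i)) (D.isPair_refl i)).left,
      congr_arg CommaMorphism.left h', congr_arg CommaMorphism.left h⟩
  t i j := (D.tr i j).left
  t_id i := by
    have : D.tr i i = 𝟙 _ := by
      apply D.P_hom_ext
      rw [tr_p₁, Category.id_comp]
      apply D.ext i
      rw [(D.isPair i i).eq]
    rw [this]
    rfl
  t' i j k := (D.tr₃ i j k).left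
  t_fac i j k := by
    have := D.tr₃_q₂ i j k
    exact congr_arg CommaMorphism.left this
  cocycle i j k := by
    have := D.tr₃_cocycle i j k
    exact congr_arg CommaMorphism.left this
  f_open i j := inferInstance

/-- the glued scheme -/
noncomputable def glued : Scheme.{u} := D.glueData.glued

/-- the inclusions of the charts -/
noncomputable def gι (i : D.J) : (D.X i).left ⟶ D.glued := D.glueData.ι i

instance (i : D.J) : IsOpenImmersion (D.gι i) :=
  inferInstanceAs (IsOpenImmersion (D.glueData.ι i))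

theorem glue_cond (i j : D.J) : (D.tr i j).left ≫ (D.p₁ j i).left ≫ D.gι j =
    (D.p₁ i j).left ≫ D.gι i := D.glueData.glue_condition i j

theorem exists_lift_gι {i j : D.J} {T : Scheme.{u}} (a : T ⟶ (D.X i).left) (b : T ⟶ (D.X j).left)
    (h : a ≫ D.gι i = b ≫ D.gι j) :
    ∃ l : T ⟶ (D.P i j).left, l ≫ (D.p₁ i j).left = a ∧ l ≫ (D.p₂ i j).left = b := by
  refine ⟨(D.glueData.vPullbackConeIsLimit i j).lift (PullbackCone.mk a b h),
    (D.glueData.vPullbackConeIsLimit i j).fac (PullbackCone.mk a b h)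
      WalkingCospan.left, ?_⟩
  rw [← tr_p₁]
  exact (D.glueData.vPullbackConeIsLimit i j).fac (PullbackCone.mk a b h)
      WalkingCospan.right

theorem toBase_compat (i j : D.J) :
    pullback.fst (D.gι i) (D.gι j) ≫ (D.X i).hom =
      pullback.snd (D.gι i) (D.gι j) ≫ (D.X j).hom := by
  obtain ⟨l, h1, h2⟩ := D.exists_lift_gι (pullback.fst (D.gι i) (D.gι j))
    (pullback.snd (D.gι i) (D.gι j)) pullback.condition
  rw [← h1, ← h2, Category.assoc, Category.assoc, Over.w, Over.w]

/-- The structure morphism of the glued scheme. -/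
noncomputable def toBase : D.glued ⟶ Spec (CommRingCat.of R) :=
  D.glueData.openCover.glueMorphisms (fun i => (D.X i).hom) D.toBase_compat

@[reassoc]
theorem ι_toBase (i : D.J) : D.gι i ≫ D.toBase = (D.X i).hom :=
  D.glueData.openCover.ι_glueMorphisms (fun i => (D.X i).hom) D.toBase_compat i

/-- The glued object. -/
noncomputable def N : Over (Spec (CommRingCat.of R)) := Over.mk D.toBase

/-- The charts of the glued object. -/
noncomputable def j (i : D.J) : D.X i ⟶ D.N :=
  Over.homMk (D.gι i) (D.ι_toBase i)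

instance (i : D.J) : IsOpenImmersion (D.j i).left :=
  inferInstanceAs (IsOpenImmersion (D.gι i))

theorem exists_j_eq (x : D.N.left) : ∃ (i : D.J) (y : (D.X i).left), (D.j i).left y = x :=
  D.glueData.ι_jointly_surjective x

/-- The covering of the glued object by the charts. -/
noncomputable def cov : Cov D.N where
  ι := D.J
  V := D.X
  j := D.j
  isOpen _ := inferInstance
  covers := D.exists_j_eq

theorem j_eq_of_isPair {i k : D.J} {T : Over (Spec (CommRingCat.of R))} {a : T ⟶ D.X i} {b : T ⟶ D.X k}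
    (h : D.IsPair a b) : a ≫ D.j i = b ≫ D.j k := by
  have h1 := D.liftP_p₁ a b h
  have h2 := D.liftP_p₂ a b h
  have h3 : D.tr i k ≫ D.p₁ k i ≫ D.j k = D.p₁ i k ≫ D.j i := by
    ext
    exact D.glue_cond i k
  calc a ≫ D.j i = D.liftP a b h ≫ D.p₁ i k ≫ D.j i := by rw [← Category.assoc, h1]
    _ = D.liftP a b h ≫ D.p₂ i k ≫ D.j k := by rw [← h3, tr_p₁_assoc]
    _ = b ≫ D.j k := by rw [← Category.assoc, h2]

theorem exists_lift_j {i k : D.J} {T : Over (Spec (CommRingCat.of R))} (a : T ⟶ D.X i) (b : T ⟶ D.X k)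
    (h : a ≫ D.j i = b ≫ D.j k) : ∃ l : T ⟶ D.P i k, l ≫ D.p₁ i k = a ∧ l ≫ D.p₂ i k = b := by
  obtain ⟨l, hl1, hl2⟩ := D.exists_lift_gι a.left b.left (congrArg CommaMorphism.left h)
  refine ⟨Over.homMk l ?_, ?_, ?_⟩
  · rw [← Over.w a, ← hl1, Category.assoc, Over.w]
  · ext; exact hl1
  · ext; exact hl2

theorem gen_eq_of_j_eq {i k : D.J} {T : Over (Spec (CommRingCat.of R))} {a : T ⟶ D.X i} {b : T ⟶ D.X k}
    (h : a ≫ D.j i = b ≫ D.j k) :
    (Neron.genericFibre R).map a ≫ D.γ i = (Neron.genericFibre R).map b ≫ D.γ k := by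
  obtain ⟨l, hl1, hl2⟩ := D.exists_lift_j a b h
  rw [← hl1, ← hl2, Functor.map_comp, Functor.map_comp, Category.assoc, Category.assoc, (D.isPair i k).eq]

/-- The morphism from the overlap to the product of the charts. -/
noncomputable def pp (i k : D.J) : (D.P i k).left ⟶ pullback (D.X i).hom (D.X k).hom :=
  pullback.lift (D.p₁ i k).left (D.p₂ i k).left (by rw [Over.w, Over.w])

end Charts

end Groth.Agent.Sga7.H750.Glue
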