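import Groth.Agent.Sga7.H750.Glue
import Mathlib.AlgebraicGeometry.Morphisms.Separated
import Mathlib.AlgebraicGeometry.Morphisms.Smooth
import Mathlib.AlgebraicGeometry.PullbackCarrier

/-!
# Properties of the glued scheme

Separatedness, smoothness and the generic fibre of the scheme obtained by gluing charts.
-/

set_option autoImplicit false
universe u

open CategoryTheory CategoryTheory.Limits AlgebraicGeometry

namespace Groth.Agent.Sga7.H750.Glue

open Groth.Agent.Picfga.OverRep (res pointCover hom_ext_cover Cov)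
open GenOv

variable {R : Type u} [CommRing R] [IsDomain R]
variable {A : Over (Spec (CommRingCat.of (FractionRing R)))}

namespace Charts

variable (D : Charts A)

/-- The map from the product of two charts to the product of the glued scheme with itself. -/
noncomputable def qq (i k : D.J) : pullback (D.X i).hom (D.X k).hom ⟶ pullback D.N.hom D.N.hom :=
  pullback.map _ _ _ _ (D.j i).left (D.j k).left (𝟙 _) (by rw [Category.comp_id, Over.w])
    (by rw [Category.comp_id, Over.w])

theorem pp_fst (i k : D.J) : D.pp i k ≫ pullback.fst _ _ = (D.p₁ i k).left := pullback.lift_fst _ _ _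

theorem pp_snd (i k : D.J) : D.pp i k ≫ pullback.snd _ _ = (D.p₂ i k).left := pullback.lift_snd _ _ _

theorem qq_fst (i k : D.J) : D.qq i k ≫ pullback.fst _ _ = pullback.fst _ _ ≫ (D.j i).left :=
  pullback.lift_fst _ _ _

theorem qq_snd (i k : D.J) : D.qq i k ≫ pullback.snd _ _ = pullback.snd _ _ ≫ (D.j k).left :=
  pullback.lift_snd _ _ _

instance (i k : D.J) : IsOpenImmersion (D.qq i k) := by
  unfold qq
  infer_instance

theorem exists_qq_eq (z : ↥(pullback D.N.hom D.N.hom)) : ∃ (i k : D.J) (w : ↥(pullback (D.X i).hom (D.X k).hom)),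
    D.qq i k w = z := by
  obtain ⟨i, x, hx⟩ := D.exists_j_eq (pullback.fst D.N.hom D.N.hom z)
  obtain ⟨k, y, hy⟩ := D.exists_j_eq (pullback.snd D.N.hom D.N.hom z)
  refine ⟨i, k, ?_⟩
  have : z ∈ Set.range (D.qq i k) := by
    unfold qq
    rw [Scheme.Pullback.range_map]
    exact ⟨⟨x, hx⟩, ⟨y, hy⟩⟩
  exact this

theorem mem_range_pp {i k : D.J} (w : ↥(pullback (D.X i).hom (D.X k).hom))
    (hw : D.qq i k w ∈ Set.range (pullback.diagonal D.N.hom)) : w ∈ Set.range (D.pp i k) := by
  obtain ⟨n, hn⟩ := hw
  obtain ⟨e, he1, he2⟩ := Scheme.Pullback.exists_preimage_pullback (f := pullback.diagonal D.N.hom)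
    (g := D.qq i k) n w hn
  let E := pullback (pullback.diagonal D.N.hom) (D.qq i k)
  let s : E ⟶ pullback (D.X i).hom (D.X k).hom := pullback.snd _ _
  have h1 : (s ≫ pullback.fst _ _) ≫ D.gι i = (s ≫ pullback.snd _ _) ≫ D.gι k := by
    have hc : pullback.fst _ _ ≫ pullback.diagonal D.N.hom = s ≫ D.qq i k := pullback.condition
    have e1 : (s ≫ pullback.fst _ _) ≫ D.gι i = pullback.fst _ _ := by
      change (s ≫ pullback.fst _ _) ≫ (D.j i).left = pullback.fst _ _
      rw [Category.assoc, ← D.qq_fst i k, ← Category.assoc, ← hc, Category.assoc, pullback.diagonal_fst,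
        Category.comp_id]
    have e2 : (s ≫ pullback.snd _ _) ≫ D.gι k = pullback.fst _ _ := by
      change (s ≫ pullback.snd _ _) ≫ (D.j k).left = pullback.fst _ _
      rw [Category.assoc, ← D.qq_snd i k, ← Category.assoc, ← hc, Category.assoc, pullback.diagonal_snd,
        Category.comp_id]
    rw [e1, e2]
  obtain ⟨l, hl1, hl2⟩ := D.exists_lift_gι _ _ h1
  refine ⟨l e, ?_⟩
  have h2 : l ≫ D.pp i k = s := by
    apply pullback.hom_ext
    · rw [Category.assoc, pp_fst, hl1]
    · rw [Category.assoc, pp_snd, hl2]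
  rw [← Scheme.Hom.comp_apply, h2]
  exact he2

/-- If the overlaps are closed in the products of the charts, the glued scheme is separated. -/
theorem isSeparated_N (h : ∀ i k, IsClosed (Set.range (D.pp i k))) : IsSeparated D.N.hom := by
  have hcl : IsClosed (Set.range (pullback.diagonal D.N.hom)) := by
    rw [← isOpen_compl_iff, isOpen_iff_forall_mem_open]
    intro z hz
    obtain ⟨i, k, w, rfl⟩ := D.exists_qq_eq z
    refine ⟨D.qq i k '' (Set.range (D.pp i k))ᶜ, ?_, ?_, ?_⟩
    · rintro _ ⟨v, hv, rfl⟩ hv'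
      exact hv (D.mem_range_pp v hv')
    · exact (D.qq i k).isOpenEmbedding.isOpenMap _ (h i k).isOpen_compl
    · refine ⟨w, ?_, rfl⟩
      rintro ⟨x, rfl⟩
      apply hz
      refine ⟨(D.p₁ i k ≫ D.j i).left x, ?_⟩
      have h3 : (D.p₁ i k ≫ D.j i).left ≫ pullback.diagonal D.N.hom = D.pp i k ≫ D.qq i k := by
        have h4 : D.p₁ i k ≫ D.j i = D.p₂ i k ≫ D.j k := D.j_eq_of_isPair (D.isPair i k)
        apply pullback.hom_ext
        · rw [Category.assoc, pullback.diagonal_fst, Category.comp_id, Category.assoc, qq_fst,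
            ← Category.assoc, pp_fst]
          rfl
        · rw [Category.assoc, pullback.diagonal_snd, Category.comp_id, Category.assoc, qq_snd,
            ← Category.assoc, pp_snd, h4]
          rfl
      rw [← Scheme.Hom.comp_apply, ← Scheme.Hom.comp_apply, h3]
  have : IsClosedImmersion (pullback.diagonal D.N.hom) := IsClosedImmersion.of_isPreimmersion _ hcl
  exact ⟨this⟩

theorem smooth_N (h : ∀ i, Smooth (D.X i).hom) : Smooth D.N.hom := by
  rw [IsZariskiLocalAtSource.iff_of_openCover (P := @Smooth) D.cov.openCover]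
  intro i
  change Smooth ((D.j i).left ≫ D.N.hom)
  rw [Over.w]
  exact h i

instance flat_N : Flat D.N.hom := by
  rw [IsZariskiLocalAtSource.iff_of_openCover (P := @Flat) D.cov.openCover]
  intro i
  change Flat ((D.j i).left ≫ D.N.hom)
  rw [Over.w]
  exact D.flat i

end Charts

end Groth.Agent.Sga7.H750.Glue
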