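import Groth.Agent.Sga7.H750.GenLaw

/-!
# Local group laws on charts

`Law X ξ`: a correspondence `D` with three projections to `X`, pairwise open immersions to `X × X`, compatible with
the multiplication of `A`. It is strict if the projections are surjective on the closed fibre. Every law can be made
strict by shrinking the chart.
-/

set_option autoImplicit false
universe u

open CategoryTheory CategoryTheory.Limits AlgebraicGeometry MonoidalCategory CartesianMonoidalCategory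
open scoped MonObj

namespace Groth.Agent.Sga7.H750.LocLaw

open GenOv LocVal FibGen GenLaw Groth.Agent.Dix.GenFibre
open Groth.Agent.Picfga.OverRep (res)

section overS

variable {S : Scheme.{u}}

theorem exists_lift_res {T X : Over S} (V : X.left.Opens) (f : T ⟶ X) (h : ∀ t, f.left t ∈ V) :
    ∃ g : T ⟶ Over.mk (V.ι ≫ X.hom), g ≫ res X V = f := by
  let g' : T.left ⟶ V.toScheme := IsOpenImmersion.lift V.ι f.left (by
    rintro _ ⟨t, rfl⟩
    simpa using h t)
  have hg' : g' ≫ V.ι = f.left := IsOpenImmersion.lift_fac _ _ _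
  refine ⟨Over.homMk g' ?_, ?_⟩
  · simp only [Over.mk_hom, reassoc_of% hg']
    simp
  · ext
    exact hg'

theorem isIso_swap (X Y : Over S) : IsIso (lift (snd X Y) (fst X Y)) :=
  ⟨lift (snd Y X) (fst Y X), by ext1 <;> simp, by ext1 <;> simp⟩

theorem isOpenImmersion_swap {X Y T : Over S} (a : T ⟶ X) (b : T ⟶ Y) (h : IsOpenImmersion (lift a b).left) :
    IsOpenImmersion (lift b a).left := by
  have h1 : lift b a = lift a b ≫ lift (snd X Y) (fst X Y) := by ext1 <;> simp
  have h2 := isIso_swap X Y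
  have h3 : IsIso (lift (snd X Y) (fst X Y)).left :=
    inferInstanceAs (IsIso ((Over.forget _).map (lift (snd X Y) (fst X Y))))
  rw [h1]
  exact isOpenImmersion_comp _ _ h inferInstance

theorem isOpenImmersion_tensor {X Y X' Y' : Over S} (a : X ⟶ X') (b : Y ⟶ Y') (ha : IsOpenImmersion a.left)
    (hb : IsOpenImmersion b.left) : IsOpenImmersion (a ⊗ₘ b).left := by
  rw [Over.tensorHom_left]
  infer_instance

theorem isOpenMap_fst (X Y : Over S) [Smooth Y.hom] : IsOpenMap (fst X Y).left :=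
  Scheme.Hom.isOpenMap (pullback.fst X.hom Y.hom)

theorem isOpenMap_of_lift {D X Y : Over S} [Smooth Y.hom] (p : D ⟶ X) (m : D ⟶ Y)
    (h : IsOpenImmersion (lift p m).left) : IsOpenMap p.left := by
  have h1 : p.left = (lift p m).left ≫ (fst X Y).left := by
    rw [← Over.comp_left, lift_fst]
  rw [h1, Scheme.Hom.comp_base, TopCat.coe_comp]
  exact (isOpenMap_fst X Y).comp (lift p m).left.isOpenEmbedding.isOpenMap

theorem exists_eta {X D : Over S} [GeometricallyIrreducible X.hom] (p m m' : D ⟶ X)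
    (hm : IsOpenImmersion (lift p m).left) (hm' : IsOpenImmersion (lift p m').left) (q₀ : D.left) :
    ∃ q : D.left, p.left q = p.left q₀ ∧ (lift p m).left q = eta X X (p.left q₀) ∧
      (lift p m').left q = eta X X (p.left q₀) := by
  obtain ⟨q, hq⟩ : eta X X (p.left q₀) ∈ Set.range (lift p m).left := by
    refine eta_mem (lift p m).left.isOpenEmbedding.isOpen_range ⟨q₀, rfl⟩ ?_
    rw [← Scheme.Hom.comp_apply, ← Over.comp_left, lift_fst]
  refine ⟨q, ?_, hq, map_eta _ _ hm hm' (by rw [lift_fst, lift_fst]) _ q hq⟩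
  have h1 : p.left q = (fst X X).left ((lift p m).left q) := by
    rw [← Scheme.Hom.comp_apply, ← Over.comp_left, lift_fst]
  rw [h1, hq, fst_eta]

/-- The second coordinate of the generic point of the fibre lies in all opens which meet the fibre of `X`. -/
theorem snd_eta_mem {X Y : Over S} [GeometricallyIrreducible X.hom] (y : Y.left) (V : Set X.left)
    (hV : IsOpen V) (h : ∃ v ∈ V, X.hom v = Y.hom y) : (snd Y X).left (eta Y X y) ∈ V := by
  obtain ⟨v, hv, hvy⟩ := h
  obtain ⟨o, ho1, ho2⟩ := Scheme.Pullback.exists_preimage_pullback (f := Y.hom) (g := X.hom) y v hvy.symm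
  have h1 : eta Y X y ∈ (snd Y X).left ⁻¹' V := by
    refine eta_mem (hV.preimage (snd Y X).left.continuous) (o := o) ?_ ho1
    change pullback.snd Y.hom X.hom o ∈ V
    rw [ho2]
    exact hv
  exact h1

end overS

variable {R : Type u} [CommRing R]

local notation "𝒮" => Over (Spec (CommRingCat.of R))
local notation "𝒦" => Over (Spec (CommRingCat.of (FractionRing R)))
local notation "F" => Neron.genericFibre R

/-- A local group law on the chart `X` of `A`. -/
structure Law {A : 𝒦} [GrpObj A] (X : 𝒮) (ξ : (F).obj X ⟶ A) where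
  /-- the correspondence -/
  D : 𝒮
  /-- first factor -/
  p₁ : D ⟶ X
  /-- second factor -/
  p₂ : D ⟶ X
  /-- product -/
  p₃ : D ⟶ X
  o₁₂ : IsOpenImmersion (lift p₁ p₂).left
  o₁₃ : IsOpenImmersion (lift p₁ p₃).left
  o₃₂ : IsOpenImmersion (lift p₃ p₂).left
  eq : (F).map p₃ ≫ ξ = ((F).map p₁ ≫ ξ) * ((F).map p₂ ≫ ξ)

/-- The law is strict if the three projections are surjective on the closed fibre. -/
structure Law.IsStrict [IsLocalRing R] {A : 𝒦} [GrpObj A] {X : 𝒮} {ξ : (F).obj X ⟶ A} (L : Law X ξ) : Prop where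
  s₁ : ∀ x : X.left, X.hom x = IsLocalRing.closedPoint R → ∃ q, L.p₁.left q = x
  s₂ : ∀ x : X.left, X.hom x = IsLocalRing.closedPoint R → ∃ q, L.p₂.left q = x
  s₃ : ∀ x : X.left, X.hom x = IsLocalRing.closedPoint R → ∃ q, L.p₃.left q = x

variable [IsLocalRing R]

/-- Shrinking a law. -/
theorem exists_isStrict {A : 𝒦} [GrpObj A] {X : 𝒮} [Smooth X.hom] [GeometricallyIrreducible X.hom]
    {ξ : (F).obj X ⟶ A} (L : Law X ξ) (hL : ∃ q : L.D.left, L.D.hom q = IsLocalRing.closedPoint R) :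
    ∃ (V : X.left.Opens) (L' : Law (Over.mk (V.ι ≫ X.hom)) ((F).map (res X V) ≫ ξ)), L'.IsStrict ∧
      ∃ x ∈ V, X.hom x = IsLocalRing.closedPoint R := by
  obtain ⟨q₀, hq₀⟩ := hL
  have o₂₁ := isOpenImmersion_swap _ _ L.o₁₂
  have o₂₃ := isOpenImmersion_swap _ _ L.o₃₂
  have o₃₁ := isOpenImmersion_swap _ _ L.o₁₃
  let V : X.left.Opens := ⟨Set.range L.p₁.left ∩ (Set.range L.p₂.left ∩ Set.range L.p₃.left),
    (isOpenMap_of_lift _ _ L.o₁₂).isOpen_range.inter
      ((isOpenMap_of_lift _ _ o₂₁).isOpen_range.inter (isOpenMap_of_lift _ _ o₃₁).isOpen_range)⟩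
  let s := IsLocalRing.closedPoint R
  have hpV : ∀ p : L.D ⟶ X, X.hom (p.left q₀) = s := fun p => by
    rw [← Scheme.Hom.comp_apply, Over.w, hq₀]
  -- the generic point of the closed fibre
  have hξV : fgp X.hom s ∈ V := by
    refine ⟨?_, ?_, ?_⟩
    · exact fgp_mem _ _ (isOpenMap_of_lift _ _ L.o₁₂).isOpen_range ⟨q₀, rfl⟩ (hpV _)
    · exact fgp_mem _ _ (isOpenMap_of_lift _ _ o₂₁).isOpen_range ⟨q₀, rfl⟩ (hpV _)
    · exact fgp_mem _ _ (isOpenMap_of_lift _ _ o₃₁).isOpen_range ⟨q₀, rfl⟩ (hpV _)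
  have hVs : ∃ x ∈ V, X.hom x = s := ⟨_, hξV, apply_fgp _ _⟩
  let W : L.D.left.Opens := (L.p₁.left ⁻¹ᵁ V) ⊓ ((L.p₂.left ⁻¹ᵁ V) ⊓ (L.p₃.left ⁻¹ᵁ V))
  obtain ⟨p₁, hp₁⟩ := exists_lift_res V (res L.D W ≫ L.p₁) (fun t => t.2.1)
  obtain ⟨p₂, hp₂⟩ := exists_lift_res V (res L.D W ≫ L.p₂) (fun t => t.2.2.1)
  obtain ⟨p₃, hp₃⟩ := exists_lift_res V (res L.D W ≫ L.p₃) (fun t => t.2.2.2)
  have hopen : ∀ (a b : Over.mk (W.ι ≫ L.D.hom) ⟶ Over.mk (V.ι ≫ X.hom)) (a' b' : L.D ⟶ X)
      (ha : a ≫ res X V = res L.D W ≫ a') (hb : b ≫ res X V = res L.D W ≫ b')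
      (hab : IsOpenImmersion (lift a' b').left), IsOpenImmersion (lift a b).left := by
    intro a b a' b' ha hb hab
    have h1 : lift a b ≫ (res X V ⊗ₘ res X V) = res L.D W ≫ lift a' b' := by
      rw [lift_map, ha, hb]
      ext1 <;> simp
    have h2 : IsOpenImmersion (lift a b ≫ (res X V ⊗ₘ res X V)).left := by
      rw [h1]
      exact isOpenImmersion_comp _ _ inferInstance hab
    have h3 := isOpenImmersion_tensor (res X V) (res X V) inferInstance inferInstance
    exact isOpenImmersion_of_comp (lift a b) (res X V ⊗ₘ res X V)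
  let L' : Law (Over.mk (V.ι ≫ X.hom)) ((F).map (res X V) ≫ ξ) :=
    { D := Over.mk (W.ι ≫ L.D.hom)
      p₁ := p₁
      p₂ := p₂
      p₃ := p₃
      o₁₂ := hopen _ _ _ _ hp₁ hp₂ L.o₁₂
      o₁₃ := hopen _ _ _ _ hp₁ hp₃ L.o₁₃
      o₃₂ := hopen _ _ _ _ hp₃ hp₂ L.o₃₂
      eq := by
        rw [← Category.assoc, ← Functor.map_comp, hp₃, ← Category.assoc, ← Functor.map_comp, hp₁,
          ← Category.assoc, ← Functor.map_comp, hp₂, Functor.map_comp, Functor.map_comp, Functor.map_comp,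
          Category.assoc, Category.assoc, Category.assoc, L.eq, MonObj.comp_mul] }
  refine ⟨V, L', ?_, hVs⟩
  -- the key surjectivity
  have key : ∀ (p m m' : L.D ⟶ X) (hm : IsOpenImmersion (lift p m).left)
      (hm' : IsOpenImmersion (lift p m').left) (x : X.left) (hx : X.hom x = s) (hxV : x ∈ V) (q : L.D.left)
      (hq : p.left q = x), ∃ q' : L.D.left, p.left q' = x ∧ m.left q' ∈ V ∧ m'.left q' ∈ V := by
    intro p m m' hm hm' x hx hxV q hq
    subst hq
    obtain ⟨q', h1, h2, h3⟩ := exists_eta p m m' hm hm' q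
    have h4 : (snd X X).left (eta X X (p.left q)) ∈ V := by
      refine snd_eta_mem _ (V : Set X.left) V.isOpen ?_
      rw [hx]
      exact hVs
    refine ⟨q', h1, ?_, ?_⟩
    · have : m.left q' = (snd X X).left ((lift p m).left q') := by
        rw [← Scheme.Hom.comp_apply, ← Over.comp_left, lift_snd]
      rw [this, h2]
      exact h4
    · have : m'.left q' = (snd X X).left ((lift p m').left q') := by
        rw [← Scheme.Hom.comp_apply, ← Over.comp_left, lift_snd]
      rw [this, h3]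
      exact h4
  have hres : ∀ (x y : (Over.mk (V.ι ≫ X.hom)).left), (res X V).left x = (res X V).left y → x = y :=
    fun x y h => V.ι.isOpenEmbedding.injective h
  have hVx : ∀ x : (Over.mk (V.ι ≫ X.hom)).left, V.ι x ∈ V := fun x => x.2
  refine ⟨?_, ?_, ?_⟩
  · intro x hx
    have hxV := hVx x
    obtain ⟨q, hq⟩ := hxV.1
    obtain ⟨q', h1, h2, h3⟩ := key L.p₁ L.p₂ L.p₃ L.o₁₂ L.o₁₃ (V.ι x) hx hxV q hq
    refine ⟨⟨q', ⟨by change L.p₁.left q' ∈ V; rw [h1]; exact hxV, h2, h3⟩⟩, ?_⟩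
    apply hres
    rw [← Scheme.Hom.comp_apply, ← Over.comp_left, hp₁]
    exact h1
  · intro x hx
    have hxV := hVx x
    obtain ⟨q, hq⟩ := hxV.2.1
    obtain ⟨q', h1, h2, h3⟩ := key L.p₂ L.p₁ L.p₃ o₂₁ o₂₃ (V.ι x) hx hxV q hq
    refine ⟨⟨q', ⟨h2, by change L.p₂.left q' ∈ V; rw [h1]; exact hxV, h3⟩⟩, ?_⟩
    apply hres
    rw [← Scheme.Hom.comp_apply, ← Over.comp_left, hp₂]
    exact h1
  · intro x hx
    have hxV := hVx x
    obtain ⟨q, hq⟩ := hxV.2.2
    obtain ⟨q', h1, h2, h3⟩ := key L.p₃ L.p₁ L.p₂ o₃₁ L.o₃₂ (V.ι x) hx hxV q hq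
    refine ⟨⟨q', ⟨h2, h3, by change L.p₃.left q' ∈ V; rw [h1]; exact hxV⟩⟩, ?_⟩
    apply hres
    rw [← Scheme.Hom.comp_apply, ← Over.comp_left, hp₃]
    exact h1

end Groth.Agent.Sga7.H750.LocLaw
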