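import Groth.Agent.Sga7.H750.GenOv
import Groth.Agent.Sga7.H750.FibGen
import Mathlib.CategoryTheory.Monoidal.Cartesian.Over

/-!
# Local values of morphisms on generic fibres

`R` a domain, `F = Neron.genericFibre R`, `ξ : F X ⟶ B` a "chart" of `B` and `φ : F Y ⟶ B`.
`Val ξ φ y x` says that `φ` extends near the point `y` of `Y` to a morphism to `X` with value `x` at `y`.
-/

set_option autoImplicit false
universe u

open CategoryTheory CategoryTheory.Limits AlgebraicGeometry MonoidalCategory CartesianMonoidalCategory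

namespace Groth.Agent.Sga7.H750.LocVal

open GenOv Groth.Agent.Dix.GenFibre

variable {R : Type u} [CommRing R]

local notation "𝒮" => Over (Spec (CommRingCat.of R))
local notation "𝒦" => Over (Spec (CommRingCat.of (FractionRing R)))
local notation "F" => Neron.genericFibre R

/-- Local values of morphisms on generic fibres. -/
def Val {X Y : 𝒮} {B : 𝒦} (ξ : (F).obj X ⟶ B) (φ : (F).obj Y ⟶ B) (y : Y.left) (x : X.left) : Prop :=
  ∃ (T : 𝒮) (t : T ⟶ Y) (g : T ⟶ X) (w : T.left), IsOpenImmersion t.left ∧ t.left w = y ∧ g.left w = x ∧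
    (F).map g ≫ ξ = (F).map t ≫ φ

theorem val_map {X Y : 𝒮} {B : 𝒦} (ξ : (F).obj X ⟶ B) (g : Y ⟶ X) (y : Y.left) :
    Val ξ ((F).map g ≫ ξ) y (g.left y) :=
  ⟨Y, 𝟙 Y, g, y, inferInstanceAs (IsOpenImmersion (𝟙 Y.left)), rfl, rfl, by
    rw [CategoryTheory.Functor.map_id, Category.id_comp]⟩

theorem val_map' {X Y : 𝒮} {B : 𝒦} (ξ : (F).obj X ⟶ B) (g : Y ⟶ X) (y : Y.left) (φ : (F).obj Y ⟶ B)
    (h : φ = (F).map g ≫ ξ) : Val ξ φ y (g.left y) := by
  rw [h]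
  exact val_map ξ g y

/-- The fibre product of two open immersions or of an open immersion and a morphism. -/
theorem exists_pb {T T' Y : 𝒮} (t : T ⟶ Y) (t' : T' ⟶ Y) [IsOpenImmersion t.left] (w : T.left) (w' : T'.left)
    (h : t.left w = t'.left w') : ∃ (W : 𝒮) (a : W ⟶ T) (b : W ⟶ T') (v : W.left), IsOpenImmersion b.left ∧
      a.left v = w ∧ b.left v = w' ∧ a ≫ t = b ≫ t' := by
  obtain ⟨v, hv1, hv2⟩ := Scheme.Pullback.exists_preimage_pullback (f := t.left) (g := t'.left) w w' h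
  let W : 𝒮 := Over.mk (pullback.snd t.left t'.left ≫ T'.hom)
  let b : W ⟶ T' := Over.homMk (pullback.snd t.left t'.left) rfl
  let a : W ⟶ T := Over.homMk (pullback.fst t.left t'.left) (by
    change pullback.fst t.left t'.left ≫ T.hom = pullback.snd t.left t'.left ≫ T'.hom
    rw [← Over.w t, ← Over.w t', pullback.condition_assoc])
  exact ⟨W, a, b, v, inferInstanceAs (IsOpenImmersion (pullback.snd t.left t'.left)), hv1, hv2,
    Over.OverMorphism.ext pullback.condition⟩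

/-- Values are compatible with composition. -/
theorem Val.trans {X X' Y : 𝒮} {B B' : 𝒦} {ξ : (F).obj X ⟶ B} {φ : (F).obj Y ⟶ B} {y : Y.left} {x : X.left}
    (h : Val ξ φ y x) (α : B ⟶ B') {ξ' : (F).obj X' ⟶ B'} {x' : X'.left} (h' : Val ξ' (ξ ≫ α) x x') :
    Val ξ' (φ ≫ α) y x' := by
  obtain ⟨T, t, g, w, ht, hw, hg, e⟩ := h
  obtain ⟨T', t', g', w', ht', hw', hg', e'⟩ := h'
  obtain ⟨W, a, b, v, hb, ha, hb', hab⟩ := exists_pb t' g w' w (by rw [hw', hg])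
  refine ⟨W, b ≫ t, a ≫ g', v, isOpenImmersion_comp _ _ hb ht, ?_, ?_, ?_⟩
  · rw [Over.comp_left, Scheme.Hom.comp_apply, hb', hw]
  · rw [Over.comp_left, Scheme.Hom.comp_apply, ha, hg']
  · rw [Functor.map_comp, Category.assoc, e', ← Category.assoc, ← Functor.map_comp, hab,
      Functor.map_comp, Category.assoc, ← Category.assoc _ ξ, e, Functor.map_comp]
    simp only [Category.assoc]

/-- Values are compatible with pullback. -/
theorem Val.comp {X Y Y' : 𝒮} {B : 𝒦} {ξ : (F).obj X ⟶ B} {φ : (F).obj Y ⟶ B} {x : X.left}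
    (f : Y' ⟶ Y) {y' : Y'.left} (h : Val ξ φ (f.left y') x) : Val ξ ((F).map f ≫ φ) y' x := by
  obtain ⟨T, t, g, w, ht, hw, hg, e⟩ := h
  obtain ⟨W, a, b, v, hb, ha, hb', hab⟩ := exists_pb t f w y' hw
  refine ⟨W, b, a ≫ g, v, hb, hb', ?_, ?_⟩
  · rw [Over.comp_left, Scheme.Hom.comp_apply, ha, hg]
  · rw [Functor.map_comp, Category.assoc, e, ← Category.assoc, ← Category.assoc, ← Functor.map_comp,
      ← Functor.map_comp, hab]

/-- Values can be computed on open neighbourhoods. -/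
theorem Val.of_isOpenImmersion {X Y Y' : 𝒮} {B : 𝒦} {ξ : (F).obj X ⟶ B} {φ : (F).obj Y ⟶ B} {x : X.left}
    (f : Y' ⟶ Y) (hf : IsOpenImmersion f.left) {y' : Y'.left} (h : Val ξ ((F).map f ≫ φ) y' x) :
    Val ξ φ (f.left y') x := by
  obtain ⟨T, t, g, w, ht, hw, hg, e⟩ := h
  refine ⟨T, t ≫ f, g, w, isOpenImmersion_comp _ _ ht hf, ?_, hg, ?_⟩
  · rw [Over.comp_left, Scheme.Hom.comp_apply, hw]
  · rw [e, Functor.map_comp, Category.assoc]

/-- Values in the target of a morphism of charts. -/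
theorem Val.postcomp {X X' Y : 𝒮} {B : 𝒦} {ξ : (F).obj X ⟶ B} {ξ' : (F).obj X' ⟶ B} {φ : (F).obj Y ⟶ B}
    {y : Y.left} {x : X.left} (h : Val ξ φ y x) (f : X ⟶ X') (hf : (F).map f ≫ ξ' = ξ) :
    Val ξ' φ y (f.left x) := by
  obtain ⟨T, t, g, w, ht, hw, hg, e⟩ := h
  refine ⟨T, t, g ≫ f, w, ht, hw, ?_, ?_⟩
  · rw [Over.comp_left, Scheme.Hom.comp_apply, hg]
  · rw [Functor.map_comp, Category.assoc, hf, e]

/-- Values in an open subchart. -/
theorem Val.liftOpen {X X' Y : 𝒮} {B : 𝒦} {ξ : (F).obj X ⟶ B} {ξ' : (F).obj X' ⟶ B} {φ : (F).obj Y ⟶ B}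
    {y : Y.left} {x : X.left} (h : Val ξ φ y x) (f : X' ⟶ X) (hfo : IsOpenImmersion f.left)
    (hf : (F).map f ≫ ξ = ξ') (x' : X'.left) (hx : f.left x' = x) :
    Val ξ' φ y x' := by
  obtain ⟨T, t, g, w, ht, hw, hg, e⟩ := h
  obtain ⟨W, a, b, v, hb, ha, hb', hab⟩ := exists_pb f g x' w (by rw [hx, hg])
  refine ⟨W, b ≫ t, a, v, isOpenImmersion_comp _ _ hb ht, ?_, ha, ?_⟩
  · rw [Over.comp_left, Scheme.Hom.comp_apply, hb', hw]
  · rw [← hf, ← Category.assoc, ← Functor.map_comp, hab, Functor.map_comp, Category.assoc, e,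
      Functor.map_comp, Category.assoc]

/-- Change of the target. -/
theorem Val.whisker {X Y : 𝒮} {B B' : 𝒦} {ξ : (F).obj X ⟶ B} {φ : (F).obj Y ⟶ B}
    {y : Y.left} {x : X.left} (h : Val ξ φ y x) (α : B ⟶ B') : Val (ξ ≫ α) (φ ≫ α) y x := by
  obtain ⟨T, t, g, w, ht, hw, hg, e⟩ := h
  exact ⟨T, t, g, w, ht, hw, hg, by rw [← Category.assoc, e, Category.assoc]⟩

/-- Change of the target by an isomorphism. -/
theorem Val.of_whisker {X Y : 𝒮} {B B' : 𝒦} {ξ : (F).obj X ⟶ B} {φ : (F).obj Y ⟶ B}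
    {y : Y.left} {x : X.left} (α : B ⟶ B') [Mono α] (h : Val (ξ ≫ α) (φ ≫ α) y x) : Val ξ φ y x := by
  obtain ⟨T, t, g, w, ht, hw, hg, e⟩ := h
  refine ⟨T, t, g, w, ht, hw, hg, ?_⟩
  rw [← cancel_mono α, Category.assoc, e, Category.assoc]

/-- The points where a value exists form an open set. -/
theorem isOpen_val {X Y : 𝒮} {B : 𝒦} (ξ : (F).obj X ⟶ B) (φ : (F).obj Y ⟶ B) :
    IsOpen {y | ∃ x, Val ξ φ y x} := by
  rw [isOpen_iff_forall_mem_open]
  rintro y ⟨x, T, t, g, w, ht, hw, hg, e⟩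
  refine ⟨Set.range t.left, ?_, t.left.isOpenEmbedding.isOpen_range, ⟨w, hw⟩⟩
  rintro _ ⟨w', rfl⟩
  exact ⟨g.left w', T, t, g, w', ht, rfl, rfl, e⟩

/-- The points where the value exists and lies in a given open set form an open set. -/
theorem isOpen_val_mem {X Y : 𝒮} {B : 𝒦} (ξ : (F).obj X ⟶ B) (φ : (F).obj Y ⟶ B) (O : Set X.left)
    (hO : IsOpen O) : IsOpen {y | ∃ x ∈ O, Val ξ φ y x} := by
  rw [isOpen_iff_forall_mem_open]
  rintro y ⟨x, hx, T, t, g, w, ht, hw, hg, e⟩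
  refine ⟨t.left '' (g.left ⁻¹' O), ?_, t.left.isOpenEmbedding.isOpenMap _ (hO.preimage g.left.continuous),
    ⟨w, ?_, hw⟩⟩
  · rintro _ ⟨w', hw', rfl⟩
    exact ⟨g.left w', hw', T, t, g, w', ht, rfl, rfl, e⟩
  · change g.left w ∈ O
    rw [hg]
    exact hx

/-- The values are compatible with the structure morphisms. -/
theorem Val.hom_eq {X Y : 𝒮} {B : 𝒦} {ξ : (F).obj X ⟶ B} {φ : (F).obj Y ⟶ B}
    {y : Y.left} {x : X.left} (h : Val ξ φ y x) : X.hom x = Y.hom y := by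
  obtain ⟨T, t, g, w, ht, hw, hg, e⟩ := h
  rw [← hw, ← hg, ← Scheme.Hom.comp_apply, ← Scheme.Hom.comp_apply, Over.w, Over.w]

/-- Pairs of values. -/
theorem Val.prod {X₁ X₂ Y : 𝒮} {B₁ B₂ : 𝒦} {ξ₁ : (F).obj X₁ ⟶ B₁} {ξ₂ : (F).obj X₂ ⟶ B₂}
    {φ₁ : (F).obj Y ⟶ B₁} {φ₂ : (F).obj Y ⟶ B₂} {y : Y.left} {x₁ : X₁.left} {x₂ : X₂.left}
    (h₁ : Val ξ₁ φ₁ y x₁) (h₂ : Val ξ₂ φ₂ y x₂) :
    ∃ p : (X₁ ⊗ X₂).left, (fst X₁ X₂).left p = x₁ ∧ (snd X₁ X₂).left p = x₂ ∧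
      Val (lift ((F).map (fst X₁ X₂) ≫ ξ₁) ((F).map (snd X₁ X₂) ≫ ξ₂)) (lift φ₁ φ₂) y p := by
  obtain ⟨T, t, g, w, ht, hw, hg, e⟩ := h₁
  obtain ⟨T', t', g', w', ht', hw', hg', e'⟩ := h₂
  obtain ⟨W, a, b, v, hb, ha, hb', hab⟩ := exists_pb t t' w w' (by rw [hw, hw'])
  refine ⟨(lift (a ≫ g) (b ≫ g')).left v, ?_, ?_, W, b ≫ t', lift (a ≫ g) (b ≫ g'), v,
    isOpenImmersion_comp _ _ hb ht', ?_, rfl, ?_⟩
  · rw [← Scheme.Hom.comp_apply, ← Over.comp_left, lift_fst, Over.comp_left, Scheme.Hom.comp_apply, ha, hg]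
  · rw [← Scheme.Hom.comp_apply, ← Over.comp_left, lift_snd, Over.comp_left, Scheme.Hom.comp_apply, hb', hg']
  · rw [Over.comp_left, Scheme.Hom.comp_apply, hb', hw']
  · ext1
    · rw [Category.assoc, lift_fst, Category.assoc, lift_fst, ← Category.assoc, ← Functor.map_comp, lift_fst,
        Functor.map_comp, Category.assoc, e, ← hab, Functor.map_comp, Category.assoc]
    · rw [Category.assoc, lift_snd, Category.assoc, lift_snd, ← Category.assoc, ← Functor.map_comp, lift_snd,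
        Functor.map_comp, Category.assoc, e', Functor.map_comp, Category.assoc]

section domain

variable [IsDomain R]

/-- Uniqueness of values. -/
theorem Val.unique {X Y : 𝒮} {B : 𝒦} {ξ : (F).obj X ⟶ B} [Mono ξ] {φ : (F).obj Y ⟶ B}
    [Flat Y.hom] [IsSeparated X.hom]
    {y : Y.left} {x x' : X.left} (h : Val ξ φ y x) (h' : Val ξ φ y x') : x = x' := by
  obtain ⟨T, t, g, w, ht, hw, hg, e⟩ := h
  obtain ⟨T', t', g', w', ht', hw', hg', e'⟩ := h'
  obtain ⟨W, a, b, v, hb, ha, hb', hab⟩ := exists_pb t t' w w' (by rw [hw, hw'])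
  have hWY := isOpenImmersion_comp b t' hb ht'
  have hW : Flat W.hom := flat_of_isOpenImmersion (b ≫ t')
  have h1 : a ≫ g = b ≫ g' := by
    apply Dix.GenExtUniq.ext_of_genericFibre
    rw [← cancel_mono ξ, Functor.map_comp, Functor.map_comp, Category.assoc, Category.assoc, e, e',
      ← Category.assoc, ← Category.assoc, ← Functor.map_comp, ← Functor.map_comp, hab]
  rw [← hg, ← hg', ← ha, ← hb', ← Scheme.Hom.comp_apply, ← Scheme.Hom.comp_apply, ← Over.comp_left,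
    ← Over.comp_left, h1]

end domain

end Groth.Agent.Sga7.H750.LocVal
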