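import Groth.Agent.Sga7.H750.NeronGrp

/-!
# Quasi-compactness of the model covered by translates of a chart
-/

set_option autoImplicit false
universe u

open CategoryTheory CategoryTheory.Limits AlgebraicGeometry MonoidalCategory CartesianMonoidalCategory
open scoped MonObj

namespace Groth.Agent.Sga7.H750.NeronQC

open GenOv LocVal FibGen GenLaw LocLaw LawOps NeronGrp Groth.Agent.Dix.GenFibre

variable {R : Type u} [CommRing R]

local notation "𝒮" => Over (Spec (CommRingCat.of R))
local notation "𝒦" => Over (Spec (CommRingCat.of (FractionRing R)))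
local notation "F" => Neron.genericFibre R

variable {A : Over (Spec (CommRingCat.of (FractionRing R)))} [GrpObj A]
variable [IsDomain R] [IsDiscreteValuationRing R] {X : Over (Spec (CommRingCat.of R))}
  {ξ : (Neron.genericFibre R).obj X ⟶ A} {N : Over (Spec (CommRingCat.of R))}
  {e : (Neron.genericFibre R).obj N ≅ A}

/-- The points of `A` whose translation is defined at the generic point of the closed fibre of `X`. -/
def TransAt [GeometricallyIrreducible X.hom] (ξ : (Neron.genericFibre R).obj X ⟶ A)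
    (h : 𝟙_ (Over (Spec (CommRingCat.of (FractionRing R)))) ⟶ A) : Prop :=
  ∃ x', Val ξ (ξ ≫ T h) (fgp X.hom (IsLocalRing.closedPoint R)) x'

variable [GeometricallyIrreducible X.hom] [Smooth X.hom]
  (L : Law X ξ) (hL : L.IsStrict)

omit [IsDomain R] [IsDiscreteValuationRing R] [GeometricallyIrreducible X.hom] [Smooth X.hom]
  [GrpObj A] in
/-- The pair chart. -/
theorem pair_mul [GrpObj A] {B : 𝒦} (u v : B ⟶ A) : lift u v ≫ (fst A A * snd A A) = u * v := by
  rw [MonObj.comp_mul, lift_fst, lift_snd]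

include hL

/-- Translates of the chart by elements `h` which are defined at the generic point are in the image of the
multiplication of the chart. -/
theorem exists_mul_eq [IsCommMonObj A] [IsSeparated N.hom] (M : X ⊗ X ⟶ N)
    (hM : (F).map M ≫ e.hom = ((F).map (fst X X) ≫ ξ) * ((F).map (snd X X) ≫ ξ))
    (h : 𝟙_ (Over (Spec (CommRingCat.of (FractionRing R)))) ⟶ A) (hh : TransAt ξ h) (i : X ⟶ N)
    (hi : (F).map i ≫ e.hom = ξ ≫ T h) (x : X.left) (hx : X.hom x = IsLocalRing.closedPoint R) :
    ∃ P, M.left P = i.left x := by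
  -- `x t⁻¹`
  have h1 := val_sb L hL (𝟙 X) x hx
  rw [CategoryTheory.Functor.map_id, Category.id_comp] at h1
  have h2 : Val ξ ((chY X ξ ≫ sb ξ) ≫ snd _ _) (eta X X x) ((snd X X).left (eta X X x)) :=
    h1.trans _ (val_map' ξ (snd X X) _ _ (chY_snd X ξ))
  -- `x t⁻¹ h`
  obtain ⟨x', hx'⟩ : ∃ x', Val ξ (ξ ≫ T h) ((snd X X).left (eta X X x)) x' := by
    have := snd_eta_mem (X := X) x {y | ∃ x', Val ξ (ξ ≫ T h) y x'} (isOpen_val _ _)
      ⟨fgp X.hom (IsLocalRing.closedPoint R), hh, by rw [apply_fgp, hx]⟩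
    exact this
  have h3 := h2.trans (T h) hx'
  -- the pair `(x t⁻¹ h, t)`
  have h4 : Val ξ ((F).map (snd X X) ≫ ξ) (eta X X x) ((snd X X).left (eta X X x)) := val_map _ _ _
  obtain ⟨P, -, -, hP⟩ := h3.prod h4
  refine ⟨P, ?_⟩
  -- the product
  have h5 : Val e.hom (lift ((F).map (fst X X) ≫ ξ) ((F).map (snd X X) ≫ ξ) ≫ (fst A A * snd A A)) P
      (M.left P) := by
    rw [pair_mul, ← hM]
    exact val_map _ _ _
  have h6 := hP.trans _ h5
  rw [pair_mul] at h6
  have h7 : Val e.hom ((F).map (fst X X ≫ i) ≫ e.hom) (eta X X x) ((fst X X ≫ i).left (eta X X x)) :=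
    val_map _ _ _
  have h8 : (((chY X ξ ≫ sb ξ) ≫ snd _ _) ≫ T h) * ((F).map (snd X X) ≫ ξ) =
      (F).map (fst X X ≫ i) ≫ e.hom := by
    rw [Functor.map_comp, Category.assoc ((F).map (fst X X)), hi, ← Category.assoc ((F).map (fst X X)), comp_T,
      comp_T, comp_sb, lift_snd, chY_fst_assoc, chY_snd, mul_right_comm, inv_mul_cancel_right]
  rw [h8] at h6
  have hfl : Flat (X ⊗ X).hom := inferInstanceAs (Flat (pullback.fst X.hom X.hom ≫ X.hom))
  have h9 := h6.unique h7
  rw [h9, Over.comp_left, Scheme.Hom.comp_apply, fst_eta]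

/-- The model is quasi-compact if finitely many translates reach all components. -/
theorem compactSpace_N [IsCommMonObj A] (hR : EtCoh.IsStrictlyHenselianLocalRing R) [Smooth N.hom]
    [IsSeparated N.hom] [QuasiCompact X.hom] [CompactSpace A.left] (hN : IsTransCov ξ e)
    {J : Type*} [Finite J] (c : J → (𝟙_ (Over (Spec (CommRingCat.of (FractionRing R)))) ⟶ A))
    (hc : ∀ c', ∃ k, TransAt ξ (c' * (c k)⁻¹)) : CompactSpace N.left := by
  have : Smooth (N ⊗ N).hom := inferInstanceAs (Smooth (pullback.fst N.hom N.hom ≫ N.hom))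
  obtain ⟨mul, hmul⟩ := exists_map_of_val (e := e) (Y := N ⊗ N) _ (exists_val_mul_N L hL hR hN)
  obtain ⟨i₁, -, hi₁⟩ := hN.ex 1
  choose j hj hjc using hN.ex
  let M : J → (X ⊗ X ⟶ N) := fun k => lift (fst X X ≫ i₁) (snd X X ≫ j (c k)) ≫ mul
  have hM : ∀ k, (F).map (M k) ≫ (e ≪≫ (asIso (T (c k))).symm).hom =
      ((F).map (fst X X) ≫ ξ) * ((F).map (snd X X) ≫ ξ) := by
    intro k
    rw [Iso.trans_hom, Iso.symm_hom, asIso_inv, ← Category.assoc, key_mul e hmul, IsIso.comp_inv_eq, comp_T,
      Functor.map_comp, Functor.map_comp, Category.assoc, Category.assoc, hi₁, hjc, T_one, Category.comp_id,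
      ← Category.assoc ((F).map (snd X X)), comp_T, mul_assoc]
  have hXX : CompactSpace (X ⊗ X).left := by
    have h1 : QuasiCompact (X ⊗ X).hom := inferInstanceAs (QuasiCompact (pullback.fst X.hom X.hom ≫ X.hom))
    exact (quasiCompact_iff_compactSpace (f := (X ⊗ X).hom)).1 h1
  have hFN : CompactSpace ((F).obj N).left := by
    let e' : ((F).obj N).left ≅ A.left := (Over.forget _).mapIso e
    exact e'.hom.homeomorph.symm.compactSpace
  have hcov : (Set.univ : Set N.left) ⊆ Set.range (genι N) ∪ ⋃ k, Set.range (M k).left := by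
    intro n _
    by_cases hn : N.hom n = IsLocalRing.closedPoint R
    · right
      obtain ⟨c', i, x, hi, hic, hx⟩ := hN.covers n hn
      obtain ⟨k, hk⟩ := hc c'
      have hx2 : X.hom x = IsLocalRing.closedPoint R := by
        rw [← hn, ← hx, ← Scheme.Hom.comp_apply, Over.w]
      obtain ⟨P, hP⟩ := exists_mul_eq L hL (M k) (hM k) _ hk i (by
        rw [Iso.trans_hom, Iso.symm_hom, asIso_inv, ← Category.assoc, hic, IsIso.comp_inv_eq, Category.assoc,
          T_comp_T, inv_mul_cancel_right]) x hx2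
      exact Set.mem_iUnion.2 ⟨k, P, hP.trans hx⟩
    · left
      have h1 : n ∈ Set.range (pullback.fst N.hom (Neron.genPt R)) := by
        rw [Scheme.Pullback.range_fst]
        have : N.hom n ∈ (Neron.genPt R).opensRange := by
          rw [Dix.GenOpen.opensRange_genPt]
          exact hn
        exact this
      exact h1
  refine ⟨IsCompact.of_isClosed_subset ?_ isClosed_univ hcov⟩
  exact (isCompact_range (genι N).continuous).union
    (isCompact_iUnion fun k => isCompact_range (M k).left.continuous)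

end Groth.Agent.Sga7.H750.NeronQC
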