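import Groth.Agent.Sga7.H750.LawOps
import Groth.Agent.Dix.NeronEllGrp
import Groth.Prelude.Def_Red

/-!
# The group structure on a model covered by translates of a chart with a strict law
-/

set_option autoImplicit false
universe u

open CategoryTheory CategoryTheory.Limits AlgebraicGeometry MonoidalCategory CartesianMonoidalCategory
open scoped MonObj

namespace Groth.Agent.Sga7.H750.NeronGrp

open GenOv LocVal FibGen GenLaw LocLaw LawOps Groth.Agent.Dix.GenFibre
open Groth.Agent.Picfga.OverRep (res)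

variable {R : Type u} [CommRing R]

local notation "𝒮" => Over (Spec (CommRingCat.of R))
local notation "𝒦" => Over (Spec (CommRingCat.of (FractionRing R)))
local notation "F" => Neron.genericFibre R

variable {A : Over (Spec (CommRingCat.of (FractionRing R)))} [GrpObj A]

section grp

variable [IsDomain R] {N : Over (Spec (CommRingCat.of R))} [Smooth N.hom] [IsSeparated N.hom]
  (e : (Neron.genericFibre R).obj N ≅ A)

omit [GrpObj A] [Smooth N.hom] in
theorem ext_e {Y : 𝒮} [Flat Y.hom] {f g : Y ⟶ N} (h : (F).map f ≫ e.hom = (F).map g ≫ e.hom) : f = g :=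
  Dix.GenExtUniq.ext_of_genericFibre ((cancel_mono e.hom).1 h)

omit [IsDomain R] [Smooth N.hom] [IsSeparated N.hom] in
theorem key_mul {mul : N ⊗ N ⟶ N}
    (hmul : (F).map mul ≫ e.hom = ((F).map (fst N N) ≫ e.hom) * ((F).map (snd N N) ≫ e.hom)) {Y : 𝒮}
    (u v : Y ⟶ N) : (F).map (lift u v ≫ mul) ≫ e.hom = ((F).map u ≫ e.hom) * ((F).map v ≫ e.hom) := by
  rw [Functor.map_comp, Category.assoc, hmul, MonObj.comp_mul, ← Category.assoc, ← Category.assoc,
    ← Functor.map_comp, ← Functor.map_comp, lift_fst, lift_snd]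

/-- A group structure on the generic fibre whose structure morphisms extend. -/
theorem exists_grpObj
    (one : 𝟙_ (Over (Spec (CommRingCat.of R))) ⟶ N) (hone : (F).map one ≫ e.hom = 1)
    (mul : N ⊗ N ⟶ N)
    (hmul : (F).map mul ≫ e.hom = ((F).map (fst N N) ≫ e.hom) * ((F).map (snd N N) ≫ e.hom))
    (inv : N ⟶ N) (hinv : (F).map inv ≫ e.hom = (e.hom)⁻¹) : ∃ _ : GrpObj N, IsMonHom e.hom := by
  have hone' : ∀ {Y : 𝒮} (t : Y ⟶ 𝟙_ 𝒮), (F).map (t ≫ one) ≫ e.hom = 1 := by
    intro Y t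
    rw [Functor.map_comp, Category.assoc, hone, MonObj.comp_one]
  have hinv' : ∀ {Y : 𝒮} (t : Y ⟶ N), (F).map (t ≫ inv) ≫ e.hom = ((F).map t ≫ e.hom)⁻¹ := by
    intro Y t
    rw [Functor.map_comp, Category.assoc, hinv, GrpObj.comp_inv]
  have key : ∀ {Y : 𝒮} (u v : Y ⟶ N), (F).map (lift u v ≫ mul) ≫ e.hom =
    ((F).map u ≫ e.hom) * ((F).map v ≫ e.hom) := fun u v => key_mul e hmul u v
  have hN2 : Flat (N ⊗ N).hom := inferInstanceAs (Flat (pullback.fst N.hom N.hom ≫ N.hom))
  have hN1 : Flat (𝟙_ (Over (Spec (CommRingCat.of R))) ⊗ N).hom :=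
    inferInstanceAs (Flat (pullback.fst (𝟙 _) N.hom ≫ 𝟙 _))
  have hN1' : Flat (N ⊗ 𝟙_ (Over (Spec (CommRingCat.of R)))).hom :=
    inferInstanceAs (Flat (pullback.fst N.hom (𝟙 _) ≫ N.hom))
  have hN3 : Flat ((N ⊗ N) ⊗ N).hom :=
    inferInstanceAs (Flat (pullback.fst (pullback.fst N.hom N.hom ≫ N.hom) N.hom ≫
      (pullback.fst N.hom N.hom ≫ N.hom)))
  have h1 : one ▷ N ≫ mul = (λ_ N).hom := by
    apply ext_e e
    have h2 : (one ▷ N) = lift (fst _ N ≫ one) (snd _ N) := by ext1 <;> simp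
    rw [h2, key, hone', one_mul, leftUnitor_hom]
  have h1' : N ◁ one ≫ mul = (ρ_ N).hom := by
    apply ext_e e
    have h2 : (N ◁ one) = lift (fst N _) (snd N _ ≫ one) := by ext1 <;> simp
    rw [h2, key, hone', mul_one, rightUnitor_hom]
  have h3 : mul ▷ N ≫ mul = (α_ N N N).hom ≫ N ◁ mul ≫ mul := by
    apply ext_e e
    have e1 : (mul ▷ N) = lift (fst (N ⊗ N) N ≫ mul) (snd (N ⊗ N) N) := by ext1 <;> simp
    have e2 : (α_ N N N).hom ≫ N ◁ mul = lift (fst (N ⊗ N) N ≫ fst N N)
        (lift (fst (N ⊗ N) N ≫ snd N N) (snd (N ⊗ N) N) ≫ mul) := by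
      ext1
      · simp
      · simp only [Category.assoc, whiskerLeft_snd, lift_snd]
        rw [← Category.assoc]
        congr 1
        ext1
        · simp
        · simp
    rw [e1, key, ← Category.assoc, e2, key, key, ← mul_assoc]
    congr 1
    have e3 : fst (N ⊗ N) N = lift (fst (N ⊗ N) N ≫ fst N N) (fst (N ⊗ N) N ≫ snd N N) := by
      ext1 <;> simp
    conv_lhs => rw [e3]
    rw [key]
  have h4 : lift inv (𝟙 N) ≫ mul = toUnit N ≫ one := by
    apply ext_e e
    have h5 : inv = 𝟙 N ≫ inv := (Category.id_comp _).symm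
    rw [key, hone', h5, hinv', inv_mul_cancel]
  have h4' : lift (𝟙 N) inv ≫ mul = toUnit N ≫ one := by
    apply ext_e e
    have h5 : inv = 𝟙 N ≫ inv := (Category.id_comp _).symm
    rw [key, hone', h5, hinv', mul_inv_cancel]
  let G : GrpObj N :=
    { one := one
      mul := mul
      inv := inv
      one_mul := h1
      mul_one := h1'
      mul_assoc := h3
      left_inv := h4
      right_inv := h4' }
  refine ⟨G, ?_, ?_⟩
  · change (Functor.LaxMonoidal.ε (F) ≫ (F).map one) ≫ e.hom = _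
    rw [Category.assoc, hone, MonObj.comp_one, MonObj.one_eq_one]
  · change (Functor.LaxMonoidal.μ (F) N N ≫ (F).map mul) ≫ e.hom = _
    rw [Category.assoc, hmul, MonObj.comp_mul, ← Category.assoc, ← Category.assoc, Functor.Monoidal.μ_fst,
      Functor.Monoidal.μ_snd, MonObj.mul_eq_mul, MonObj.comp_mul, tensorHom_fst, tensorHom_snd]

end grp

section ext

variable [IsDomain R] [IsDiscreteValuationRing R] {X : Over (Spec (CommRingCat.of R))}
  {ξ : (Neron.genericFibre R).obj X ⟶ A} {N : Over (Spec (CommRingCat.of R))}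
  (e : (Neron.genericFibre R).obj N ≅ A)

/-- `N` is a model of `A` which contains all translates of the chart `X`, and whose closed fibre is covered by
them. -/
structure IsTransCov (ξ : (Neron.genericFibre R).obj X ⟶ A) (e : (Neron.genericFibre R).obj N ≅ A) : Prop where
  /-- the translates -/
  ex : ∀ c : 𝟙_ (Over (Spec (CommRingCat.of (FractionRing R)))) ⟶ A, ∃ i : X ⟶ N, IsOpenImmersion i.left ∧
    (Neron.genericFibre R).map i ≫ e.hom = ξ ≫ T c
  /-- they cover the closed fibre -/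
  covers : ∀ n : N.left, N.hom n = IsLocalRing.closedPoint R →
    ∃ (c : 𝟙_ (Over (Spec (CommRingCat.of (FractionRing R)))) ⟶ A) (i : X ⟶ N) (x : X.left),
      IsOpenImmersion i.left ∧ (Neron.genericFibre R).map i ≫ e.hom = ξ ≫ T c ∧ i.left x = n

variable {e}

omit [GrpObj A] in
/-- Extension of morphisms of generic fibres from values. -/
theorem exists_map_of_val [IsSeparated N.hom] {Y : 𝒮} [Smooth Y.hom] (φ : (F).obj Y ⟶ A)
    (H : ∀ y : Y.left, Y.hom y = IsLocalRing.closedPoint R → ∃ n, Val e.hom φ y n) :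
    ∃ g : Y ⟶ N, (F).map g ≫ e.hom = φ := by
  obtain ⟨g, hg⟩ := Dix.GenExt.exists_map_eq (N := N) (φ ≫ e.inv) (fun y => by
    by_cases hy : Y.hom y = IsLocalRing.closedPoint R
    · obtain ⟨n, S, t, g, w, ht, hw, -, h⟩ := H y hy
      refine ⟨S, t, g, ht, ⟨w, hw⟩, ?_⟩
      rw [← Category.assoc, ← h, Category.assoc, e.hom_inv_id, Category.comp_id]
    · exact Dix.NeronEllGrp.extAt_of_genOpen _ y hy)
  refine ⟨g, ?_⟩
  rw [hg, Category.assoc, e.inv_hom_id, Category.comp_id]

variable [GeometricallyIrreducible X.hom] [Smooth X.hom] (L : Law X ξ) (hL : L.IsStrict)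

include hL

/-- Products of morphisms to `N` are defined near the closed fibre. -/
theorem exists_val_mul_N [IsCommMonObj A] (hR : EtCoh.IsStrictlyHenselianLocalRing R) (hN : IsTransCov ξ e)
    (z : (N ⊗ N).left) (hz : (N ⊗ N).hom z = IsLocalRing.closedPoint R) :
    ∃ n, Val e.hom (((F).map (fst N N) ≫ e.hom) * ((F).map (snd N N) ≫ e.hom)) z n := by
  obtain ⟨c, i, x, hi, hic, hx⟩ := hN.covers ((fst N N).left z) (by
    rw [← Scheme.Hom.comp_apply, Over.w, hz])
  obtain ⟨d, j, y, hj, hjd, hy⟩ := hN.covers ((snd N N).left z) (by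
    rw [← Scheme.Hom.comp_apply, Over.w, hz])
  have hij := isOpenImmersion_tensor i j hi hj
  obtain ⟨z', hz'⟩ : ∃ z', (i ⊗ₘ j).left z' = z := by
    have : z ∈ Set.range (pullback.map X.hom X.hom N.hom N.hom i.left j.left (𝟙 _)
        (by rw [Category.comp_id, Over.w]) (by rw [Category.comp_id, Over.w])) := by
      rw [Scheme.Pullback.range_map]
      exact ⟨⟨x, hx⟩, ⟨y, hy⟩⟩
    exact this
  subst hz'
  have hz2 : (X ⊗ X).hom z' = IsLocalRing.closedPoint R := by
    rw [← hz, ← Scheme.Hom.comp_apply, Over.w]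
  obtain ⟨c', x', hx'⟩ := exists_val_mul L hL hR (fst X X) (snd X X) z' hz2
  obtain ⟨i', hi', hi'c⟩ := hN.ex (c' * (c * d))
  refine ⟨i'.left x', Val.of_isOpenImmersion (i ⊗ₘ j) hij ?_⟩
  have h1 := (hx'.whisker (T (c * d))).postcomp (ξ' := e.hom) i' (by
    rw [hi'c, Category.assoc, T_comp_T])
  convert h1 using 1
  rw [MonObj.comp_mul, ← Functor.map_comp_assoc, ← Functor.map_comp_assoc, tensorHom_fst, tensorHom_snd,
    Functor.map_comp, Functor.map_comp, Category.assoc, Category.assoc, hic, hjd, ← Category.assoc,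
    ← Category.assoc, comp_T, comp_T, comp_T, cst_mul]
  exact mul_mul_mul_comm _ _ _ _

/-- The inverse is defined near the closed fibre. -/
theorem exists_val_inv_N [IsCommMonObj A] (hR : EtCoh.IsStrictlyHenselianLocalRing R) (hN : IsTransCov ξ e)
    (z : N.left) (hz : N.hom z = IsLocalRing.closedPoint R) :
    ∃ n, Val e.hom (e.hom)⁻¹ z n := by
  obtain ⟨c, i, x, hi, hic, hx⟩ := hN.covers z hz
  subst hx
  have hz2 : X.hom x = IsLocalRing.closedPoint R := by
    rw [← hz, ← Scheme.Hom.comp_apply, Over.w]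
  obtain ⟨c', x', hx'⟩ := exists_val_inv L hL hR (𝟙 X) x hz2
  obtain ⟨i', hi', hi'c⟩ := hN.ex (c' * c⁻¹)
  refine ⟨i'.left x', Val.of_isOpenImmersion i hi ?_⟩
  have h1 := (hx'.whisker (T c⁻¹)).postcomp (ξ' := e.hom) i' (by
    rw [hi'c, Category.assoc, T_comp_T])
  convert h1 using 1
  rw [GrpObj.comp_inv, hic, comp_T, comp_T, cst_inv, CategoryTheory.Functor.map_id, Category.id_comp,
    mul_inv]

omit hL [GeometricallyIrreducible X.hom] [Smooth X.hom] in
/-- Every point of `A` extends to a section of `N`. -/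
theorem exists_section (hN : IsTransCov ξ e) (a : 𝟙_ (Over (Spec (CommRingCat.of R))) ⟶ X)
    (c : 𝟙_ (Over (Spec (CommRingCat.of (FractionRing R)))) ⟶ A) :
    ∃ s : 𝟙_ (Over (Spec (CommRingCat.of R))) ⟶ N, (F).map s ≫ e.hom = cst _ c := by
  obtain ⟨i, hi, hic⟩ := hN.ex ((ev ξ a)⁻¹ * c)
  refine ⟨a ≫ i, ?_⟩
  have h := map_toUnit (Y := 𝟙_ (Over (Spec (CommRingCat.of R)))) ξ a
  rw [toUnit_unit, Category.id_comp] at h
  rw [Functor.map_comp, Category.assoc, hic, ← Category.assoc, h, comp_T, cst_mul, cst_inv,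
    mul_inv_cancel_left]

/-- The group structure on `N`. -/
theorem exists_grpObj_N [IsCommMonObj A] (hR : EtCoh.IsStrictlyHenselianLocalRing R) (hN : IsTransCov ξ e)
    [Smooth N.hom] [IsSeparated N.hom] : ∃ _ : GrpObj N, IsMonHom e.hom := by
  -- a section of `X`
  obtain ⟨a, -⟩ : ∃ a : 𝟙_ (Over (Spec (CommRingCat.of R))) ⟶ X, True := by
    obtain ⟨a, -⟩ := GenLaw.exists_section_mem (Y := 𝟙_ (Over (Spec (CommRingCat.of R)))) (X := X) hR
      (IsLocalRing.closedPoint R) rfl Set.univ isOpen_univ trivial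
    exact ⟨a, trivial⟩
  have : Smooth (N ⊗ N).hom := inferInstanceAs (Smooth (pullback.fst N.hom N.hom ≫ N.hom))
  obtain ⟨mul, hmul⟩ := exists_map_of_val (e := e) (Y := N ⊗ N) _ (exists_val_mul_N L hL hR hN)
  obtain ⟨inv, hinv⟩ := exists_map_of_val (e := e) (Y := N) _ (exists_val_inv_N L hL hR hN)
  obtain ⟨one, hone⟩ := exists_section hN a 1
  exact exists_grpObj e one (by rw [hone, cst_one]) mul hmul inv hinv

end ext

end Groth.Agent.Sga7.H750.NeronGrp
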